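import Groth.Agent.RGFlatLib.Away

/-!
# Finite presentation over a scheme-theoretically dense open
-/

set_option autoImplicit false
set_option linter.style.haveILetI false
set_option linter.unusedSectionVars false
set_option maxHeartbeats 1000000
set_option backward.isDefEq.respectTransparency false

universe u

open MvPolynomial Groth.Agent.GenFree Groth.Agent.FlatLocus

noncomputable section

namespace Groth.Agent.RGFlatLib

theorem exists_fg_le_of_le_sat {B F : Type u} [CommRing B] [AddCommGroup F] [Module B F] {T : Submonoid B}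
    {W L : Submodule B F} (hW : W.FG) (h : W ≤ Sat T L) : ∃ W', W'.FG ∧ W' ≤ L ∧ W ≤ Sat T W' := by
  classical
  obtain ⟨s, rfl⟩ := hW
  choose! t ht htx using fun x (hx : x ∈ s) => h (Submodule.subset_span hx)
  refine ⟨Submodule.span B (s.image fun x => t x • x : Set F), ⟨_, rfl⟩, Submodule.span_le.mpr ?_, Submodule.span_le.mpr ?_⟩
  · rw [Finset.coe_image]
    rintro _ ⟨x, hx, rfl⟩
    exact htx x hx
  · exact fun x hx => ⟨t x, ht x hx, Submodule.subset_span (Finset.mem_image_of_mem _ hx)⟩

/-- A module with finitely presented localisation is given by finitely many relations there. -/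
theorem exists_fg_ker_of_fp_localized {B M : Type u} [CommRing B] [AddCommGroup M] [Module B M] {a : ℕ}
    (q₀ : (Fin a → B) →ₗ[B] M) (hq₀ : Function.Surjective q₀) (s : B)
    [Module.FinitePresentation (Localization.Away s) (LocalizedModule (Submonoid.powers s) M)] :
    ∃ W, W.FG ∧ W ≤ LinearMap.ker q₀ ∧ LinearMap.ker q₀ ≤ Sat (Submonoid.powers s) W := by
  classical
  let T := Submonoid.powers s
  let Bs := Localization.Away s
  let mk := LocalizedModule.mkLinearMap T M
  let j : (Fin a → B) →ₗ[B] (Fin a → Bs) := LinearMap.pi fun i => Algebra.linearMap B Bs ∘ₗ LinearMap.proj i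
  haveI : IsLocalizedModule T j := IsLocalizedModule.pi T fun _ : Fin a => Algebra.linearMap B Bs
  let Φ : (Fin a → Bs) →ₗ[Bs] LocalizedModule T M :=
    Fintype.linearCombination Bs fun i => mk (q₀ (Pi.single i 1))
  have hΦ : ∀ x, Φ (j x) = (mk ∘ₗ q₀) x := fun x => by
    conv_rhs => rw [pi_eq_sum_univ' x, map_sum]
    rw [Fintype.linearCombination_apply]
    refine Finset.sum_congr rfl fun i _ => ?_
    rw [map_smul]
    exact algebraMap_smul Bs (x i) _
  have hsurj : Function.Surjective Φ := fun y => by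
    obtain ⟨⟨m, t⟩, hm⟩ := IsLocalizedModule.surj T mk y
    obtain ⟨x, rfl⟩ := hq₀ m
    obtain ⟨c, hc⟩ := IsLocalization.map_units Bs t
    refine ⟨((c⁻¹ : Bsˣ) : Bs) • j x, ?_⟩
    rw [map_smul, hΦ, LinearMap.comp_apply, ← hm, Submonoid.smul_def, ← algebraMap_smul Bs t.1, ← hc, smul_smul,
      Units.inv_mul, one_smul]
  obtain ⟨W, hW, hWle, hsat⟩ := exists_fg_ker_le_sat (s := s) (mk ∘ₗ q₀) j Φ hΦ (Module.FinitePresentation.fg_ker Φ hsurj)
  obtain ⟨W', hW', hle', hsat'⟩ := exists_fg_le_of_le_sat (T := T) hW (L := LinearMap.ker q₀) fun x hx => by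
    obtain ⟨d, hd⟩ := (IsLocalizedModule.eq_zero_iff T mk).mp (LinearMap.mem_ker.mp (hWle hx))
    exact ⟨d.1, d.2, LinearMap.mem_ker.mpr (by rw [map_smul]; exact hd)⟩
  refine ⟨W', hW', hle', fun x hx => sat_le hsat' (hsat ?_)⟩
  rw [LinearMap.mem_ker, LinearMap.comp_apply, LinearMap.mem_ker.mp hx, map_zero]

/-- A flat finite module, finitely presented over a dense family of basic opens, is finitely presented. -/
theorem finitePresentation_of_dense {A B : Type u} [CommRing A] [CommRing B] [Algebra A B] [Algebra.FinitePresentation A B]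
    (N : Type u) [AddCommGroup N] [Module B N] [Module A N] [IsScalarTower A B N] [Module.Finite B N] [Module.Flat A N]
    {m : ℕ} (f : Fin m → A) (hf : ∀ r : A, (∀ i, ∃ k : ℕ, f i ^ k * r = 0) → r = 0)
    (hfp : ∀ i, Module.FinitePresentation (Localization.Away (algebraMap A B (f i)))
      (LocalizedModule (Submonoid.powers (algebraMap A B (f i))) N)) :
    Module.FinitePresentation B N := by
  classical
  obtain ⟨n, π, hπ, hker⟩ := Algebra.FinitePresentation.out (R := A) (A := B)
  let P := MvPolynomial (Fin n) A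
  letI : Algebra P B := π.toRingHom.toAlgebra
  letI : Module P N := Module.compHom N π.toRingHom
  haveI : IsScalarTower P B N := .of_algebraMap_smul fun _ _ => rfl
  haveI : IsScalarTower A P N := .of_algebraMap_smul fun r x => by
    show π (algebraMap A P r) • x = r • x
    rw [π.commutes, algebraMap_smul]
  obtain ⟨a, q₀, hq₀⟩ := Module.Finite.exists_fin' B N
  let em : FreeMod A a n →ₗ[P] (Fin a → B) := LinearMap.pi fun i => Algebra.linearMap _ B ∘ₗ LinearMap.proj i
  have hem : Function.Surjective em := fun x => ⟨fun i => (hπ (x i)).choose, funext fun i => (hπ (x i)).choose_spec⟩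
  haveI : Module.FinitePresentation P B :=
    Module.finitePresentation_of_surjective (Algebra.linearMap P B) hπ hker
  haveI : Module.Finite P B := inferInstance
  have hker' : (LinearMap.ker em).FG := Module.FinitePresentation.fg_ker em hem
  have hW : ∀ i, ∃ W, W.FG ∧ W ≤ LinearMap.ker (genMap q₀) ∧
      LinearMap.ker (genMap (R := A) (n := n) q₀) ≤ Sat (Submonoid.powers (C (f i) : P)) W := fun i => by
    haveI := hfp i
    obtain ⟨W, hW, hle, hsat⟩ := exists_fg_ker_of_fp_localized q₀ hq₀ (algebraMap A B (f i))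
    refine ⟨(W.restrictScalars P).comap em, ?_, fun v hv => LinearMap.mem_ker.mpr (LinearMap.mem_ker.mp (hle hv)),
      fun v hv => ?_⟩
    · refine Submodule.fg_of_fg_map_of_fg_inf_ker em ?_ ?_
      · rw [Submodule.map_comap_eq, LinearMap.range_eq_top.mpr hem, top_inf_eq]
        exact Submodule.FG.restrictScalars hW
      · rw [inf_eq_right.mpr fun x hx => Submodule.mem_comap.mpr (by rw [LinearMap.mem_ker.mp hx]; exact zero_mem _)]
        exact hker'
    · obtain ⟨_, ⟨k, rfl⟩, hk⟩ := hsat (show em v ∈ LinearMap.ker q₀ from LinearMap.mem_ker.mpr (LinearMap.mem_ker.mp hv))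
      refine ⟨_, ⟨k, rfl⟩, ?_⟩
      show em ((C (f i) : P) ^ k • v) ∈ W
      rw [map_smul, ← algebraMap_smul B ((C (f i) : P) ^ k) (em v)]
      rwa [show algebraMap P B ((C (f i) : P) ^ k) = algebraMap A B (f i) ^ k by
        rw [map_pow]; exact congrArg (· ^ k) (π.commutes (f i))]
  have hB : ∀ b : B, ∃ t ∈ (⊥ : Submonoid P), t • b ∈ Set.range (algebraMap P B) :=
    fun b => ⟨1, one_mem _, (hπ b).imp fun c hc => by rw [one_smul]; exact hc⟩
  exact finitePresentation_of_genMap ⊥ (fun t ht => by rw [Submonoid.mem_bot.mp ht, map_one]; exact isUnit_one) hB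
    q₀ hq₀ (fg_of_dense f hf _ (flatSet_ker_eq_univ _ (genMap_surjective hπ q₀ hq₀)) hW) le_rfl (le_sat _ _)

/-- A flat finite type algebra, finitely presented over a dense family of basic opens, is finitely presented. -/
theorem algebra_fp_of_dense {A B : Type u} [CommRing A] [CommRing B] [Algebra A B] [Algebra.FiniteType A B]
    [Module.Flat A B] {m : ℕ} (f : Fin m → A) (hf : ∀ r : A, (∀ i, ∃ k : ℕ, f i ^ k * r = 0) → r = 0)
    (hfp : ∀ i, Algebra.FinitePresentation A (Localization.Away (algebraMap A B (f i)))) :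
    Algebra.FinitePresentation A B := by
  classical
  obtain ⟨n, π, hπ⟩ := Algebra.FiniteType.iff_quotient_mvPolynomial''.mp ‹Algebra.FiniteType A B›
  let P := MvPolynomial (Fin n) A
  letI : Algebra P B := π.toRingHom.toAlgebra
  haveI : IsScalarTower A P B := .of_algebraMap_eq fun r => (π.commutes r).symm
  let q₀ : (Fin 1 → B) →ₗ[B] B := LinearMap.proj 0
  let e : FreeMod A 1 n ≃ₗ[P] P := LinearEquiv.funUnique (Fin 1) P P
  have hW : ∀ i, ∃ W, W.FG ∧ W ≤ LinearMap.ker (genMap q₀) ∧
      LinearMap.ker (genMap (R := A) (n := n) q₀) ≤ Sat (Submonoid.powers (C (f i) : P)) W := fun i => by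
    let s : P := C (f i)
    let Ps := Localization.Away s
    let Bf := Localization.Away (algebraMap A B (f i))
    have hs : IsUnit (algebraMap P Bf s) := by
      rw [show algebraMap P Bf s = algebraMap B Bf (algebraMap A B (f i)) from
        congrArg (algebraMap B Bf) (π.commutes (f i))]
      exact IsLocalization.Away.algebraMap_isUnit (S := Bf) (algebraMap A B (f i))
    let φ : Ps →+* Bf := IsLocalization.Away.lift s hs
    have hφ : ∀ p, φ (algebraMap P Ps p) = algebraMap P Bf p := fun p => IsLocalization.Away.lift_eq s hs p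
    letI : Algebra Ps Bf := φ.toAlgebra
    haveI : IsScalarTower P Ps Bf := .of_algebraMap_eq fun p => (hφ p).symm
    haveI : Algebra.FinitePresentation P Ps := IsLocalization.Away.finitePresentation s
    haveI : Algebra.FinitePresentation A Ps := Algebra.FinitePresentation.trans A P Ps
    haveI := hfp i
    have hψc : ∀ r : A, φ (algebraMap A Ps r) = algebraMap A Bf r := fun r => by
      rw [IsScalarTower.algebraMap_apply A P Ps, hφ, ← IsScalarTower.algebraMap_apply]
    let ψ : Ps →ₐ[A] Bf := { φ with commutes' := hψc }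
    have hψ : Function.Surjective ψ := fun b => by
      obtain ⟨k, x, hx⟩ := IsLocalization.Away.surj (algebraMap A B (f i)) b
      obtain ⟨x, rfl⟩ := hπ x
      obtain ⟨c, hc⟩ := (IsLocalization.Away.algebraMap_isUnit (S := Ps) s).pow k
      refine ⟨algebraMap P Ps x * (c⁻¹ : Psˣ), ?_⟩
      refine (IsUnit.map φ c.isUnit).mul_left_injective ?_
      show φ _ * φ c = b * φ c
      rw [← map_mul, mul_assoc, Units.inv_mul, mul_one, hφ, hc, map_pow, hφ]
      show algebraMap B Bf (π x) = b * algebraMap B Bf (π s) ^ k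
      rw [show π s = algebraMap A B (f i) from π.commutes (f i)]
      exact hx.symm
    obtain ⟨W, hW, hle, hsat⟩ := exists_fg_ker_le_sat (s := s) (Algebra.linearMap P Bf) (Algebra.linearMap P Ps)
      (Algebra.linearMap Ps Bf) hφ (Algebra.FinitePresentation.ker_fG_of_surjective ψ hψ)
    obtain ⟨W', hW', hle', hsat'⟩ := exists_fg_le_of_le_sat (T := Submonoid.powers s) hW
      (L := LinearMap.ker (Algebra.linearMap P B)) fun x hx => by
      obtain ⟨⟨_, k, rfl⟩, hd⟩ := (IsLocalization.map_eq_zero_iff (Submonoid.powers (algebraMap A B (f i))) Bf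
        (algebraMap P B x)).mp (LinearMap.mem_ker.mp (hle hx))
      refine ⟨_, ⟨k, rfl⟩, LinearMap.mem_ker.mpr ?_⟩
      show π (s ^ k * x) = 0
      rw [map_mul, map_pow, show π s = algebraMap A B (f i) from π.commutes (f i)]
      exact hd
    refine ⟨W'.map e.symm.toLinearMap, hW'.map _, ?_, fun v hv => ?_⟩
    · rintro _ ⟨x, hx, rfl⟩
      exact LinearMap.mem_ker.mpr (LinearMap.mem_ker.mp (hle' hx))
    · obtain ⟨t, ht, htv⟩ := sat_le hsat' (hsat (show e v ∈ LinearMap.ker (Algebra.linearMap P Bf) from by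
        show algebraMap B Bf (π (v 0)) = 0
        rw [show π (v 0) = 0 from LinearMap.mem_ker.mp hv, map_zero]))
      exact ⟨t, ht, ⟨_, htv, by rw [LinearEquiv.coe_coe, map_smul, LinearEquiv.symm_apply_apply]⟩⟩
  have hsurj : Function.Surjective (genMap (R := A) (n := n) q₀) :=
    genMap_surjective hπ q₀ fun y => ⟨fun _ => y, rfl⟩
  have hK := fg_of_dense f hf _ (flatSet_ker_eq_univ _ hsurj) hW
  refine Algebra.FinitePresentation.of_surjective hπ ?_
  have h1 := hK.map e.toLinearMap
  rwa [show Submodule.map e.toLinearMap (LinearMap.ker (genMap q₀)) = RingHom.ker π.toRingHom from ?_] at h1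
  ext x
  exact ⟨fun ⟨v, hv, hvx⟩ => hvx ▸ LinearMap.mem_ker.mp hv,
    fun hx => ⟨e.symm x, LinearMap.mem_ker.mpr hx, e.apply_symm_apply x⟩⟩

end Groth.Agent.RGFlatLib
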