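import Groth.Agent.RGFlatLib.Pres

/-!
# Clearing residue denominators; flatness over a domain
-/

set_option autoImplicit false
set_option linter.style.haveILetI false
set_option linter.unusedSectionVars false
set_option maxHeartbeats 1000000
set_option backward.isDefEq.respectTransparency false

universe u

open MvPolynomial Groth.Agent.GenFree Groth.Agent.FlatLocus

noncomputable section

namespace Groth.Agent.RGFlatLib

variable {R : Type u} [CommRing R] {a n : ℕ}

theorem exists_smul_eq_algebraMap (p : Ideal R) [p.IsPrime] (c : p.ResidueField) :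
    ∃ d ∉ p, ∃ r : R, algebraMap R p.ResidueField d * c = algebraMap R p.ResidueField r := by
  obtain ⟨⟨r, ⟨d, hd⟩⟩, h⟩ := IsLocalization.surj (nonZeroDivisors (R ⧸ p)) c
  obtain ⟨r, rfl⟩ := Ideal.Quotient.mk_surjective r
  obtain ⟨d, rfl⟩ := Ideal.Quotient.mk_surjective d
  refine ⟨d, fun hd' => nonZeroDivisors.ne_zero hd (Ideal.Quotient.eq_zero_iff_mem.mpr hd'), r, ?_⟩
  rw [IsScalarTower.algebraMap_apply R (R ⧸ p) p.ResidueField, IsScalarTower.algebraMap_apply R (R ⧸ p) p.ResidueField,
    mul_comm]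
  exact h

theorem exists_smul_eq_phi (p : Ideal R) [p.IsPrime] {K : Submodule (MvPolynomial (Fin n) R) (FreeMod R a n)}
    {y : FreeMod p.ResidueField a n} (hy : y ∈ Submodule.span p.ResidueField (phi p.ResidueField '' (K : Set (FreeMod R a n)))) :
    ∃ d ∉ p, ∃ w ∈ K, algebraMap R p.ResidueField d • y = phi p.ResidueField w := by
  induction hy using Submodule.span_induction with
  | mem y hy =>
    obtain ⟨w, hw, rfl⟩ := hy
    exact ⟨1, (Ideal.ne_top_iff_one p).mp (Ideal.IsPrime.ne_top ‹_›), w, hw, by rw [map_one, one_smul]⟩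
  | zero => exact ⟨1, (Ideal.ne_top_iff_one p).mp (Ideal.IsPrime.ne_top ‹_›), 0, zero_mem _, by rw [smul_zero, map_zero]⟩
  | add x y _ _ hx hy =>
    obtain ⟨d, hd, v, hv, hdv⟩ := hx
    obtain ⟨e, he, w, hw, hew⟩ := hy
    refine ⟨d * e, fun h => (Ideal.IsPrime.mem_or_mem ‹_› h).elim hd he, e • v + d • w,
      add_mem (Submodule.smul_of_tower_mem _ e hv) (Submodule.smul_of_tower_mem _ d hw), ?_⟩
    rw [map_add, map_smul, map_smul, ← hdv, ← hew, smul_add, map_mul,
      ← algebraMap_smul p.ResidueField e, ← algebraMap_smul p.ResidueField d, smul_smul, smul_smul,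
      mul_comm (algebraMap R p.ResidueField e)]
  | smul c x _ hx =>
    obtain ⟨d, hd, v, hv, hdv⟩ := hx
    obtain ⟨e, he, r, her⟩ := exists_smul_eq_algebraMap p c
    refine ⟨e * d, fun h => (Ideal.IsPrime.mem_or_mem ‹_› h).elim he hd, r • v, Submodule.smul_of_tower_mem _ r hv, ?_⟩
    rw [map_smul, ← hdv, ← algebraMap_smul p.ResidueField r, map_mul, smul_smul, smul_smul, ← her]
    ring_nf

/-- A vector lying in the relations of a fibre lies, up to a scalar, in the relations modulo the prime. -/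
theorem exists_smul_mem_sup_cf (p : Ideal R) [p.IsPrime] (K : Submodule (MvPolynomial (Fin n) R) (FreeMod R a n))
    {v : FreeMod R a n} (h : phi p.ResidueField v ∈ locN p.ResidueField K) :
    ∃ d ∉ p, (C d : MvPolynomial (Fin n) R) • v ∈ K ⊔ cf p := by
  obtain ⟨d, hd, w, hw, hdw⟩ := exists_smul_eq_phi p (mem_span_of_mem_locN _ K h)
  refine ⟨d, hd, Submodule.mem_sup.mpr ⟨w, hw, d • v - w, ?_, ?_⟩⟩
  · have := mem_cf_of_phi_eq_zero (A := p.ResidueField) (x := d • v - w)
      (by rw [map_sub, map_smul, ← algebraMap_smul p.ResidueField d, hdw, sub_self])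
    rwa [Ideal.ker_algebraMap_residueField] at this
  · rw [add_sub_cancel, show (C d : MvPolynomial (Fin n) R) • v = d • v from algebraMap_smul _ d v]

variable [IsDomain R]

/-- Over a domain, near a flat point the relations come from one finitely generated submodule. -/
theorem exists_fg_nhds (K : Submodule (MvPolynomial (Fin n) R) (FreeMod R a n))
    (Q : PrimeSpectrum (MvPolynomial (Fin n) R)) (hQ : Q ∈ flatSet K) :
    ∃ (K' : Submodule (MvPolynomial (Fin n) R) (FreeMod R a n)), K'.FG ∧ K' ≤ K ∧ Q ∈ flatSet K' ∧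
      ∀ Q' ∈ flatSet K', K ≤ Sat Q'.asIdeal.primeCompl K' := by
  obtain ⟨K₁, h₁, hle₁, hsat, -⟩ := exists_fg_le_sat K Q hQ
  obtain ⟨K₀, h₀, hle₀, hgen⟩ := exists_residue_generators K (⊥ : Ideal R)
  refine ⟨K₁ ⊔ K₀, h₁.sup h₀, sup_le hle₁ hle₀, mem_flatSet_congr ((sup_le hle₁ hle₀).trans (le_sat _ _))
    (hsat.trans (sat_mono le_rfl le_sup_left)) hQ, fun Q' hQ' x hx => ?_⟩
  have h := phi_mem (⊥ : Ideal R).ResidueField K hx
  rw [← hgen] at h
  obtain ⟨d, hd, hdx⟩ := exists_smul_mem_sup_cf ⊥ K₀ h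
  rw [cf_bot, sup_bot_eq] at hdx
  exact mem_sat_of_smul_mem hQ' (fun h0 => hd h0) (Submodule.mem_sup_right hdx)

/-- Over a domain the flat locus of any quotient of a free module is open. -/
theorem isOpen_flatSet_of_isDomain (K : Submodule (MvPolynomial (Fin n) R) (FreeMod R a n)) :
    IsOpen (flatSet K) := by
  refine isOpen_iff_forall_mem_open.mpr fun Q hQ => ?_
  obtain ⟨K', hfg, hle, hQ', h⟩ := exists_fg_nhds K Q hQ
  exact ⟨flatSet K', fun Q' hQ'' => mem_flatSet_congr (h Q' hQ'') (hle.trans (le_sat _ _)) hQ'',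
    isOpen_flatSet K' hfg, hQ'⟩

/-- Over a domain an everywhere flat quotient has finitely many relations. -/
theorem fg_of_flatSet_eq_univ (K : Submodule (MvPolynomial (Fin n) R) (FreeMod R a n))
    (hK : flatSet K = Set.univ) : K.FG := by
  classical
  choose K' hfg hle hmem hsat using fun Q => exists_fg_nhds K Q (hK ▸ Set.mem_univ Q)
  obtain ⟨s, hs⟩ := isCompact_univ.elim_finite_subcover (fun Q => flatSet (K' Q))
    (fun Q => isOpen_flatSet _ (hfg Q)) (fun Q _ => Set.mem_iUnion.mpr ⟨Q, hmem Q⟩)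
  have hK' : K ≤ s.sup K' := fun x hx => by
    by_contra hx'
    have hne : (s.sup K').colon {x} ≠ ⊤ := fun h => hx' (by
      have := Submodule.mem_colon_singleton.mp (h ▸ Submodule.mem_top : (1 : MvPolynomial (Fin n) R) ∈ _)
      rwa [one_smul] at this)
    obtain ⟨m, hm, hle'⟩ := Ideal.exists_le_maximal _ hne
    obtain ⟨Q, hQs, hQ⟩ := Set.mem_iUnion₂.mp (hs (Set.mem_univ ⟨m, hm.isPrime⟩))
    obtain ⟨t, ht, htx⟩ := hsat Q _ hQ hx
    exact ht (hle' (Submodule.mem_colon_singleton.mpr (Finset.le_sup (f := K') hQs htx)))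
  rw [le_antisymm hK' (Finset.sup_le fun Q _ => hle Q)]
  exact Submodule.fg_finset_sup s K' fun Q _ => hfg Q

/-- Over a domain, a flat finite module over a finite type algebra is finitely presented. -/
theorem finitePresentation_of_flat_isDomain {S M : Type u} [CommRing S] [Algebra R S] [Algebra.FiniteType R S]
    [AddCommGroup M] [Module S M] [Module R M] [IsScalarTower R S M] [Module.Finite S M] [Module.Flat R M] :
    Module.FinitePresentation S M := by
  obtain ⟨n, π, hπ⟩ := Algebra.FiniteType.iff_quotient_mvPolynomial''.mp ‹Algebra.FiniteType R S›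
  letI : Algebra (MvPolynomial (Fin n) R) S := π.toRingHom.toAlgebra
  letI : Module (MvPolynomial (Fin n) R) M := Module.compHom M π.toRingHom
  haveI : IsScalarTower (MvPolynomial (Fin n) R) S M := .of_algebraMap_smul fun _ _ => rfl
  haveI : IsScalarTower R (MvPolynomial (Fin n) R) M := .of_algebraMap_smul fun r m => by
    show π (algebraMap R (MvPolynomial (Fin n) R) r) • m = r • m
    rw [π.commutes, algebraMap_smul]
  obtain ⟨a, q₀, hq₀⟩ := Module.Finite.exists_fin' S M
  have hB : ∀ b : S, ∃ t ∈ (⊥ : Submonoid (MvPolynomial (Fin n) R)),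
      t • b ∈ Set.range (algebraMap (MvPolynomial (Fin n) R) S) :=
    fun b => ⟨1, one_mem _, (hπ b).imp fun c hc => by rw [one_smul]; exact hc⟩
  have hsurj : Function.Surjective (genMap (R := R) (n := n) q₀) := fun y => by
    obtain ⟨t, ht, v, hv⟩ := genMap_surj ⊥ hB q₀ hq₀ y
    rw [Submonoid.mem_bot.mp ht, one_smul] at hv
    exact ⟨v, hv.symm⟩
  exact finitePresentation_of_genMap ⊥ (fun t ht => by rw [Submonoid.mem_bot.mp ht, map_one]; exact isUnit_one) hB
    q₀ hq₀ (fg_of_flatSet_eq_univ _ (flatSet_ker_eq_univ _ hsurj)) le_rfl (le_sat _ _)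

end Groth.Agent.RGFlatLib
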