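import Groth.Agent.RGFlatLib.Domain
import Groth.Agent.EssFPLib.InjFlat

/-!
# The flat locus is open in every fibre
-/

set_option autoImplicit false
set_option linter.style.haveILetI false
set_option linter.unusedSectionVars false
set_option maxHeartbeats 1000000
set_option backward.isDefEq.respectTransparency false

universe u

open MvPolynomial TensorProduct Groth.Agent.GenFree Groth.Agent.FlatLocus

noncomputable section

namespace Groth.Agent.RGFlatLib

section Loc

variable {B : Type u} [CommRing B] {M : Type u} [AddCommGroup M] [Module B M] (T : Submonoid B)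

/-- Membership in an extended ideal times the localised module. -/
theorem exists_smul_mem_of_mem_map (J : Ideal B) {x : M}
    (h : LocalizedModule.mkLinearMap T M x ∈
      J.map (algebraMap B (Localization T)) • (⊤ : Submodule (Localization T) (LocalizedModule T M))) :
    ∃ c ∈ T, c • x ∈ J • (⊤ : Submodule B M) := by
  let g := LocalizedModule.mkLinearMap T M
  suffices key : ∀ z ∈ J.map (algebraMap B (Localization T)) • (⊤ : Submodule (Localization T) (LocalizedModule T M)),
      ∃ c ∈ T, ∃ m ∈ J • (⊤ : Submodule B M), c • z = g m by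
    obtain ⟨c, hc, m, hm, hcm⟩ := key _ h
    rw [← map_smul] at hcm
    obtain ⟨d, hd⟩ := IsLocalizedModule.exists_of_eq (S := T) (f := g) hcm
    rw [Submonoid.smul_def, Submonoid.smul_def, smul_smul] at hd
    exact ⟨d * c, T.mul_mem d.2 hc, hd ▸ Submodule.smul_mem _ _ hm⟩
  intro z hz
  induction hz using Submodule.smul_induction_on' with
  | smul r hr y _ =>
    obtain ⟨⟨j, s⟩, hjs⟩ := (IsLocalization.mem_map_algebraMap_iff T (Localization T)).mp hr
    obtain ⟨⟨m, t⟩, hmt⟩ := IsLocalizedModule.surj T g y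
    refine ⟨s * t, T.mul_mem s.2 t.2, (j : B) • m, Submodule.smul_mem_smul j.2 trivial, ?_⟩
    rw [map_smul, ← hmt, Submonoid.smul_def, ← algebraMap_smul (Localization T) (s.1 * t.1),
      ← algebraMap_smul (Localization T) (j : B), ← algebraMap_smul (Localization T) t.1, smul_smul, smul_smul,
      ← hjs, map_mul]
    ring_nf
  | add x _ y _ hx hy =>
    obtain ⟨c, hc, m, hm, hcm⟩ := hx
    obtain ⟨d, hd, l, hl, hdl⟩ := hy
    refine ⟨c * d, T.mul_mem hc hd, d • m + c • l, add_mem (Submodule.smul_mem _ _ hm) (Submodule.smul_mem _ _ hl), ?_⟩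
    rw [smul_add, map_add, map_smul, map_smul, ← hcm, ← hdl, smul_smul, smul_smul, mul_comm d c]

theorem mem_map_smul_of_exists (J : Ideal B) {x : M} {c : B} (hc : c ∈ T) (h : c • x ∈ J • (⊤ : Submodule B M)) :
    LocalizedModule.mkLinearMap T M x ∈
      J.map (algebraMap B (Localization T)) • (⊤ : Submodule (Localization T) (LocalizedModule T M)) := by
  let g := LocalizedModule.mkLinearMap T M
  have h1 : g (c • x) ∈ J.map (algebraMap B (Localization T)) • (⊤ : Submodule (Localization T) (LocalizedModule T M)) := by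
    refine Submodule.smul_induction_on h (fun j hj m _ => ?_) fun a b ha hb => ?_
    · rw [map_smul, ← algebraMap_smul (Localization T) j]
      exact Submodule.smul_mem_smul (Ideal.mem_map_of_mem _ hj) trivial
    · rw [map_add]; exact add_mem ha hb
  obtain ⟨u, hu⟩ := IsLocalization.map_units (Localization T) (⟨c, hc⟩ : T)
  rw [map_smul, ← algebraMap_smul (Localization T) c, ← show (u : Localization T) = algebraMap B _ c from hu] at h1
  have := Submodule.smul_mem _ ((u⁻¹ : (Localization T)ˣ) : Localization T) h1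
  rwa [smul_smul, Units.inv_mul, one_smul] at this

/-- Membership in an extended ideal times the localised module, unit multiples. -/
theorem exists_rep (z : LocalizedModule T M) :
    ∃ (c : (Localization T)ˣ) (x : M), (c : Localization T) • z = LocalizedModule.mkLinearMap T M x := by
  obtain ⟨⟨x, t⟩, hxt⟩ := IsLocalizedModule.surj T (LocalizedModule.mkLinearMap T M) z
  refine ⟨(IsLocalization.map_units (Localization T) t).unit, x, ?_⟩
  rw [IsUnit.unit_spec, algebraMap_smul]
  exact hxt

end Loc

/-- An element regular on the fibre is regular on a module flat over the base. -/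
theorem exists_smul_eq_zero_of_regular_fibre {R B M : Type u} [CommRing R] [CommRing B] [Algebra R B]
    [Algebra.FinitePresentation R B] [AddCommGroup M] [Module B M] [Module R M] [IsScalarTower R B M]
    [Module.FinitePresentation B M] (q : Ideal B) [q.IsPrime] [Module.Flat R (LocalizedModule q.primeCompl M)]
    (p : Ideal R) [p.IsPrime] (hp : p = q.comap (algebraMap R B)) (s : B)
    (hs : ∀ x c, c ∉ q → c • s • x ∈ p.map (algebraMap R B) • (⊤ : Submodule B M) →
      ∃ d ∉ q, d • x ∈ p.map (algebraMap R B) • (⊤ : Submodule B M))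
    {v : M} (hv : s • v = 0) : ∃ d ∉ q, d • v = 0 := by
  let T := q.primeCompl
  let S := Localization.AtPrime q
  let N := LocalizedModule T M
  let Rp := Localization.AtPrime p
  letI : Algebra Rp S := (Localization.localRingHom p q (algebraMap R B) hp).toAlgebra
  haveI : IsScalarTower R Rp S := .of_algebraMap_eq fun r =>
    (Localization.localRingHom_to_map p q (algebraMap R B) hp r).symm
  haveI : IsLocalHom (algebraMap Rp S) :=
    Localization.isLocalHom_localRingHom p q (algebraMap R B) hp
  letI : Module Rp N := Module.compHom N (algebraMap Rp S)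
  haveI : IsScalarTower Rp S N := .of_algebraMap_smul fun _ _ => rfl
  haveI : IsScalarTower R Rp N := .of_algebraMap_smul fun r x => by
    show algebraMap Rp S (algebraMap R Rp r) • x = r • x
    rw [← IsScalarTower.algebraMap_apply R Rp S, IsScalarTower.algebraMap_apply R B S, algebraMap_smul, algebraMap_smul]
  haveI : Module.Flat Rp N := (Module.flat_iff_of_isLocalization Rp p.primeCompl N).mpr ‹_›
  haveI : Module.FinitePresentation S N := inferInstance
  have hS : CAlgX.IsEssFinitePresentation Rp S := EssFPLib.isEssFinitePresentation_of_tower (R := R)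
    ⟨R, inferInstance, inferInstance, inferInstance, inferInstance, p.primeCompl, inferInstance, inferInstance⟩
    ⟨B, inferInstance, inferInstance, inferInstance, inferInstance, T, inferInstance, inferInstance⟩
  let J : Ideal B := p.map (algebraMap R B)
  have hJ : (IsLocalRing.maximalIdeal Rp).map (algebraMap Rp S) = J.map (algebraMap B S) := by
    rw [← IsLocalization.AtPrime.map_eq_maximalIdeal p Rp, Ideal.map_map, Ideal.map_map]
    congr 1
    exact RingHom.ext fun r => Localization.localRingHom_to_map p q (algebraMap R B) hp r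
  let μ : N →ₗ[S] N := LinearMap.lsmul S N (algebraMap B S s)
  have hinj := (EssFPLib.injective_and_flat_coker hS μ (fun z hz => by
    rw [hJ] at hz ⊢
    obtain ⟨c, w, hcx⟩ := exists_rep T z
    have h1 : LocalizedModule.mkLinearMap T _ (s • w) ∈ J.map (algebraMap B S) • (⊤ : Submodule S N) := by
      rw [map_smul, ← hcx, ← algebraMap_smul S s, smul_comm]
      exact Submodule.smul_mem _ _ hz
    obtain ⟨d, hd, h2⟩ := exists_smul_mem_of_mem_map T J h1
    obtain ⟨e, he, h3⟩ := hs w d hd h2
    have h4 := mem_map_smul_of_exists T J he h3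
    rw [← hcx] at h4
    have := Submodule.smul_mem _ ((c⁻¹ : Sˣ) : S) h4
    rwa [smul_smul, Units.inv_mul, one_smul] at this)).1
  have h0 : LocalizedModule.mkLinearMap T M v = 0 := hinj (by
    rw [map_zero]
    show algebraMap B S s • LocalizedModule.mkLinearMap T M v = 0
    rw [algebraMap_smul, ← map_smul, hv, map_zero])
  obtain ⟨d, hd⟩ := (IsLocalizedModule.eq_zero_iff T _).mp h0
  exact ⟨d.1, d.2, hd⟩

variable {R : Type u} [CommRing R] {a n : ℕ}

theorem mkQ_mem_smul_iff (K' : Submodule (MvPolynomial (Fin n) R) (FreeMod R a n)) (I : Ideal R)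
    (w : FreeMod R a n) :
    K'.mkQ w ∈ I.map (C : R →+* MvPolynomial (Fin n) R) • (⊤ : Submodule (MvPolynomial (Fin n) R) (FreeMod R a n ⧸ K')) ↔ w ∈ K' ⊔ cf I := by
  have hJcf : I.map (C : R →+* MvPolynomial (Fin n) R) • (⊤ : Submodule _ (FreeMod R a n)) = cf I := by
    refine le_antisymm (Submodule.smul_le.mpr fun j hj y _ => ?_) fun y hy => ?_
    · simp only [cf, Submodule.mem_pi, Set.mem_univ, forall_true_left]
      exact fun i => Ideal.mul_mem_right _ _ hj
    · simp only [cf, Submodule.mem_pi, Set.mem_univ, forall_true_left] at hy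
      rw [pi_eq_sum_univ y]
      exact Submodule.sum_mem _ fun i _ => Submodule.smul_mem_smul (hy i) trivial
  rw [show (⊤ : Submodule (MvPolynomial (Fin n) R) (FreeMod R a n ⧸ K')) = (⊤ : Submodule (MvPolynomial (Fin n) R) (FreeMod R a n)).map K'.mkQ by
    rw [Submodule.map_top, Submodule.range_mkQ], ← Submodule.map_smul'', hJcf, Submodule.mem_map]
  constructor
  · rintro ⟨y, hy, hyw⟩
    exact Submodule.mem_sup.mpr ⟨w - y, (Submodule.Quotient.eq K').mp hyw.symm, y, hy, sub_add_cancel _ _⟩
  · rintro h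
    obtain ⟨k, hk, y, hy, rfl⟩ := Submodule.mem_sup.mp h
    exact ⟨y, hy, (Submodule.Quotient.eq K').mpr (by simpa using hk)⟩

/-- An element regular on the fibre is regular on a flat quotient of a free module. -/
theorem mem_sat_of_regular_fibre {K' : Submodule (MvPolynomial (Fin n) R) (FreeMod R a n)} (hfg : K'.FG)
    (Q : PrimeSpectrum (MvPolynomial (Fin n) R)) (hQ : Q ∈ flatSet K') (p : Ideal R) [p.IsPrime]
    (hp : Q.asIdeal.comap C = p) (s : MvPolynomial (Fin n) R)
    (hs : ∀ v c, c ∉ Q.asIdeal → c • s • v ∈ K' ⊔ cf p → ∃ d ∉ Q.asIdeal, d • v ∈ K' ⊔ cf p)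
    {v : FreeMod R a n} (hv : s • v ∈ K') : v ∈ Sat Q.asIdeal.primeCompl K' := by
  haveI : Module.FinitePresentation (MvPolynomial (Fin n) R) (FreeMod R a n ⧸ K') :=
    Module.finitePresentation_of_free_of_surjective K'.mkQ K'.mkQ_surjective (by rw [Submodule.ker_mkQ]; exact hfg)
  haveI : Module.Flat R (LocalizedModule Q.asIdeal.primeCompl (FreeMod R a n ⧸ K')) := hQ
  obtain ⟨d, hd, hdv⟩ := exists_smul_eq_zero_of_regular_fibre (R := R) Q.asIdeal p hp.symm s (fun x c hc hx => by
    obtain ⟨w, rfl⟩ := K'.mkQ_surjective x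
    rw [MvPolynomial.algebraMap_eq, ← map_smul, ← map_smul, mkQ_mem_smul_iff] at hx
    obtain ⟨d, hd, hdw⟩ := hs w c hc hx
    refine ⟨d, hd, ?_⟩
    rw [MvPolynomial.algebraMap_eq, ← map_smul, mkQ_mem_smul_iff]
    exact hdw) (v := K'.mkQ v) (by rw [← map_smul]; exact (Submodule.Quotient.mk_eq_zero K').mpr hv)
  exact ⟨d, hd, (Submodule.Quotient.mk_eq_zero K').mp hdv⟩

/-- A multiplier of the centre is regular where the fibre kernel is killed. -/
theorem mem_sat_of_kill {K' : Submodule (MvPolynomial (Fin n) R) (FreeMod R a n)} (hfg : K'.FG)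
    (Q : PrimeSpectrum (MvPolynomial (Fin n) R)) (p : Ideal R) [p.IsPrime] {t : MvPolynomial (Fin n) R}
    (hkill : ∀ y : (FreeMod R a n ⧸ K') ⊗[R] p.ResidueField, AlgebraTensorModule.rTensor R p.ResidueField
      (LocalizedModule.mkLinearMap Q.asIdeal.primeCompl (FreeMod R a n ⧸ K')) y = 0 → t • y = 0)
    (Q' : PrimeSpectrum (MvPolynomial (Fin n) R)) (hQ' : Q' ∈ flatSet K') (hp : Q'.asIdeal.comap C = p)
    (ht : t ∉ Q'.asIdeal) {s : MvPolynomial (Fin n) R} (hs : s ∉ Q.asIdeal) {x : FreeMod R a n}
    (hsx : s • x ∈ K') : x ∈ Sat Q'.asIdeal.primeCompl K' := by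
  refine mem_sat_of_regular_fibre hfg Q' hQ' p hp s (fun v c hc hcv => ?_) hsx
  let y : (FreeMod R a n ⧸ K') ⊗[R] p.ResidueField := K'.mkQ (c • v) ⊗ₜ[R] 1
  have hsy : s • y = 0 := by
    rw [TensorProduct.smul_tmul', ← map_smul, smul_comm]
    refine rTensor_mkQ_eq_zero p.ResidueField K' (z := (c • s • v) ⊗ₜ[R] 1) ?_
    rw [extMap_tmul, one_smul]
    exact phi_mem_locN_of_sup _ (by rw [Ideal.ker_algebraMap_residueField]) K' hcv
  have hty := hkill y ((IsLocalizedModule.eq_zero_iff Q.asIdeal.primeCompl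
    (AlgebraTensorModule.rTensor R p.ResidueField
      (LocalizedModule.mkLinearMap Q.asIdeal.primeCompl (FreeMod R a n ⧸ K')))).mpr ⟨⟨s, hs⟩, hsy⟩)
  have h1 := extMap_mem_of_rTensor_mkQ p.ResidueField K' (z := (t • c • v) ⊗ₜ[R] 1) (by
    rw [LinearMap.rTensor_tmul, LinearMap.coe_restrictScalars, map_smul, ← TensorProduct.smul_tmul']
    exact hty)
  rw [extMap_tmul, one_smul] at h1
  obtain ⟨d, hd, h2⟩ := exists_smul_mem_sup_cf p K' h1
  refine ⟨C d * (t * c), fun hmem => ?_, by rw [mul_smul, mul_smul]; exact h2⟩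
  rcases Q'.2.mem_or_mem hmem with h | h
  · exact hd (hp.le h)
  · exact (Q'.2.mem_or_mem h).elim ht hc

/-- Near a flat point, inside its fibre, the relations come from one finitely generated submodule. -/
theorem exists_nhds_fibre (K : Submodule (MvPolynomial (Fin n) R) (FreeMod R a n))
    (Q : PrimeSpectrum (MvPolynomial (Fin n) R)) (hQ : Q ∈ flatSet K) :
    ∃ U : Set (PrimeSpectrum (MvPolynomial (Fin n) R)), IsOpen U ∧ Q ∈ U ∧
      ∀ Q' ∈ U, Q'.asIdeal.comap C = Q.asIdeal.comap C → Q' ∈ flatSet K := by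
  obtain ⟨K', hfg, hle, hsat, hQ'⟩ := exists_fg_le_sat K Q hQ
  let P := MvPolynomial (Fin n) R
  let p := Q.asIdeal.comap (C : R →+* P)
  haveI : Module.Finite P (FreeMod R a n ⧸ K') := Module.Finite.of_surjective K'.mkQ K'.mkQ_surjective
  obtain ⟨t, ht, hkill⟩ := UnivInjFib.exists_kill_fibre (A := R) Q.asIdeal.primeCompl
    (LocalizedModule.mkLinearMap Q.asIdeal.primeCompl (FreeMod R a n ⧸ K')) p.ResidueField
  exact ⟨flatSet K' ∩ PrimeSpectrum.basicOpen t, (isOpen_flatSet K' hfg).inter (PrimeSpectrum.basicOpen t).isOpen,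
    ⟨hQ', ht⟩, fun Q' hQ'' hp => mem_flatSet_congr (fun x hx => by
      obtain ⟨s, hs, hsx⟩ := hsat hx
      exact mem_sat_of_kill hfg Q p hkill Q' hQ''.1 hp hQ''.2 hs hsx) (hle.trans (le_sat _ _)) hQ''.1⟩

end Groth.Agent.RGFlatLib
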