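import Groth.Agent.RGFlatLib.Main

/-!
# Finite presentation of flat finite modules over localisations of polynomial rings
-/

set_option autoImplicit false
set_option linter.style.haveILetI false
set_option linter.unusedSectionVars false
set_option maxHeartbeats 1000000
set_option backward.isDefEq.respectTransparency false

universe u

open MvPolynomial Groth.Agent.GenFree Groth.Agent.FlatLocus

noncomputable section

namespace Groth.Agent.RGFlatLib

variable {R : Type u} [CommRing R] {a n : ℕ}

/-- The kernel of a map to a localised module computes flatness. -/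
theorem isLocalizedModule_liftQ {M : Type u} [AddCommGroup M] [Module (MvPolynomial (Fin n) R) M]
    (T : Submonoid (MvPolynomial (Fin n) R)) (u : FreeMod R a n →ₗ[MvPolynomial (Fin n) R] M)
    (hu : ∀ t ∈ T, IsUnit (algebraMap (MvPolynomial (Fin n) R) (Module.End (MvPolynomial (Fin n) R) M) t))
    (hsurj : ∀ y : M, ∃ t ∈ T, ∃ v, t • y = u v) :
    IsLocalizedModule T ((LinearMap.ker u).liftQ u le_rfl) where
  map_units t := hu t.1 t.2
  surj y := by
    obtain ⟨t, ht, v, hv⟩ := hsurj y
    exact ⟨⟨Submodule.Quotient.mk v, ⟨t, ht⟩⟩, hv⟩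
  exists_of_eq {x₁ x₂} h := ⟨1, by
    rw [LinearMap.ker_eq_bot.mp ((LinearMap.ker u).ker_liftQ_eq_bot u le_rfl le_rfl) h]⟩

theorem mem_flatSet_ker {M : Type u} [AddCommGroup M] [Module (MvPolynomial (Fin n) R) M] [Module R M]
    [IsScalarTower R (MvPolynomial (Fin n) R) M] [Module.Flat R M] (Q : PrimeSpectrum (MvPolynomial (Fin n) R))
    (u : FreeMod R a n →ₗ[MvPolynomial (Fin n) R] M)
    (hu : ∀ t ∈ Q.asIdeal.primeCompl,
      IsUnit (algebraMap (MvPolynomial (Fin n) R) (Module.End (MvPolynomial (Fin n) R) M) t))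
    (hsurj : ∀ y : M, ∃ t ∈ Q.asIdeal.primeCompl, ∃ v, t • y = u v) : Q ∈ flatSet (LinearMap.ker u) := by
  haveI := isLocalizedModule_liftQ _ u hu hsurj
  rw [mem_flatSet_iff]
  exact (flat_iff_rel _ Q.asIdeal.primeCompl ((LinearMap.ker u).liftQ u le_rfl)).mp ‹_›

/-- Everything is a point of flatness for a flat quotient. -/
theorem flatSet_ker_eq_univ {M : Type u} [AddCommGroup M] [Module (MvPolynomial (Fin n) R) M] [Module R M]
    [IsScalarTower R (MvPolynomial (Fin n) R) M] [Module.Flat R M]
    (u : FreeMod R a n →ₗ[MvPolynomial (Fin n) R] M) (hu : Function.Surjective u) :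
    flatSet (LinearMap.ker u) = Set.univ := by
  refine Set.eq_univ_of_forall fun Q => ?_
  haveI := isLocalizedModule_liftQ ⊥ u (fun t ht => by rw [Submonoid.mem_bot.mp ht, map_one]; exact isUnit_one)
    fun y => ⟨1, Submonoid.one_mem _, (hu y).imp fun v hv => by rw [one_smul, hv]⟩
  rw [mem_flatSet_iff]
  exact fun I => ((flat_iff_rel _ ⊥ ((LinearMap.ker u).liftQ u le_rfl)).mp ‹_› I).mono bot_le

section Presented

variable {B M : Type u} [CommRing B] [Algebra (MvPolynomial (Fin n) R) B] [AddCommGroup M] [Module B M]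
  [Module (MvPolynomial (Fin n) R) M] [IsScalarTower (MvPolynomial (Fin n) R) B M]
  (T : Submonoid (MvPolynomial (Fin n) R))

theorem isUnit_end_of_isUnit {t : MvPolynomial (Fin n) R} (h : IsUnit (algebraMap (MvPolynomial (Fin n) R) B t)) :
    IsUnit (algebraMap (MvPolynomial (Fin n) R) (Module.End (MvPolynomial (Fin n) R) M) t) := by
  obtain ⟨c, hc⟩ := h
  refine (Module.End.isUnit_iff _).mpr ?_
  show Function.Bijective fun m : M => t • m
  rw [show (fun m : M => t • m) = fun m => (c : B) • m from funext fun m => by rw [hc, algebraMap_smul]]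
  exact MulAction.bijective c

/-- The map from a free module over polynomials given by generators. -/
def genMap (q₀ : (Fin a → B) →ₗ[B] M) : FreeMod R a n →ₗ[MvPolynomial (Fin n) R] M :=
  q₀.restrictScalars _ ∘ₗ LinearMap.pi fun i => Algebra.linearMap _ B ∘ₗ LinearMap.proj i

theorem exists_smul_eq_pi (hB : ∀ b : B, ∃ t ∈ T, t • b ∈ Set.range (algebraMap (MvPolynomial (Fin n) R) B))
    (x : Fin a → B) : ∃ t ∈ T, ∃ v : FreeMod R a n,
      (fun i => algebraMap (MvPolynomial (Fin n) R) B (v i)) = t • x := by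
  classical
  choose t ht y hy using fun i => hB (x i)
  refine ⟨∏ i, t i, T.prod_mem fun i _ => ht i, fun i => (∏ j ∈ Finset.univ.erase i, t j) * y i, funext fun i => ?_⟩
  rw [map_mul, hy, Pi.smul_apply, ← Finset.prod_erase_mul _ _ (Finset.mem_univ i), mul_smul, ← Algebra.smul_def]

theorem genMap_surj (hB : ∀ b : B, ∃ t ∈ T, t • b ∈ Set.range (algebraMap (MvPolynomial (Fin n) R) B))
    (q₀ : (Fin a → B) →ₗ[B] M) (hq₀ : Function.Surjective q₀) (y : M) :
    ∃ t ∈ T, ∃ v : FreeMod R a n, t • y = genMap q₀ v := by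
  obtain ⟨x, rfl⟩ := hq₀ y
  obtain ⟨t, ht, v, hv⟩ := exists_smul_eq_pi T hB x
  refine ⟨t, ht, v, ?_⟩
  rw [← LinearMap.map_smul_of_tower, ← hv]
  rfl

/-- Finitely many relations up to the multiplicative set give finite presentation. -/
theorem finitePresentation_of_genMap (hTB : ∀ t ∈ T, IsUnit (algebraMap (MvPolynomial (Fin n) R) B t))
    (hB : ∀ b : B, ∃ t ∈ T, t • b ∈ Set.range (algebraMap (MvPolynomial (Fin n) R) B))
    (q₀ : (Fin a → B) →ₗ[B] M) (hq₀ : Function.Surjective q₀)
    {K' : Submodule (MvPolynomial (Fin n) R) (FreeMod R a n)} (hK' : K'.FG)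
    (hle : K' ≤ LinearMap.ker (genMap q₀)) (hsat : LinearMap.ker (genMap q₀) ≤ Sat T K') :
    Module.FinitePresentation B M := by
  classical
  let em : FreeMod R a n →ₗ[MvPolynomial (Fin n) R] (Fin a → B) :=
    LinearMap.pi fun i => Algebra.linearMap _ B ∘ₗ LinearMap.proj i
  refine Module.finitePresentation_of_free_of_surjective q₀ hq₀ ?_
  obtain ⟨s, hs⟩ := hK'
  refine ⟨s.image em, le_antisymm ?_ fun x hx => ?_⟩
  · rw [Submodule.span_le, Finset.coe_image]
    rintro _ ⟨v, hv, rfl⟩
    exact LinearMap.mem_ker.mp (hle (hs ▸ Submodule.subset_span hv))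
  · obtain ⟨t, ht, v, hv⟩ := exists_smul_eq_pi T hB x
    have hvk : genMap q₀ v = 0 := by
      show q₀ (em v) = 0
      rw [show em v = t • x from hv, LinearMap.map_smul_of_tower, LinearMap.mem_ker.mp hx, smul_zero]
    obtain ⟨t', ht', hv'⟩ := hsat (LinearMap.mem_ker.mpr hvk)
    have hmem : (t' * t) • x ∈ Submodule.span B (s.image em : Set (Fin a → B)) := by
      rw [mul_smul, ← show em v = t • x from hv, ← map_smul, Finset.coe_image]
      rw [← hs] at hv'
      have h := Submodule.mem_map_of_mem (f := em) hv'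
      rw [Submodule.map_span] at h
      exact Submodule.span_le_restrictScalars (MvPolynomial (Fin n) R) B _ h
    obtain ⟨c, hc⟩ := hTB _ (T.mul_mem ht' ht)
    rw [← algebraMap_smul B (t' * t) x, ← hc] at hmem
    have := Submodule.smul_mem _ ((c⁻¹ : Bˣ) : B) hmem
    rwa [smul_smul, Units.inv_mul, one_smul] at this

/-- A flat finite module over a local ring essentially of finite type is finitely presented. -/
theorem finitePresentation_of_flat_at [Module R M] [IsScalarTower R (MvPolynomial (Fin n) R) M]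
    [Module.Finite B M] [Module.Flat R M] (Q : PrimeSpectrum (MvPolynomial (Fin n) R))
    (hTB : ∀ t ∈ Q.asIdeal.primeCompl, IsUnit (algebraMap (MvPolynomial (Fin n) R) B t))
    (hB : ∀ b : B, ∃ t ∈ Q.asIdeal.primeCompl, t • b ∈ Set.range (algebraMap (MvPolynomial (Fin n) R) B)) :
    Module.FinitePresentation B M := by
  obtain ⟨a, q₀, hq₀⟩ := Module.Finite.exists_fin' B M
  obtain ⟨K', hfg, hle, hsat, -⟩ := exists_fg_le_sat _ Q (mem_flatSet_ker Q (genMap q₀)
    (fun t ht => isUnit_end_of_isUnit (hTB t ht)) (genMap_surj _ hB q₀ hq₀))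
  exact finitePresentation_of_genMap _ hTB hB q₀ hq₀ hfg hle hsat

end Presented

/-- A presentation of a finite module over a finite type algebra computing flatness. -/
theorem exists_flat_presentation {S M : Type u} [CommRing S] [Algebra R S] [Algebra.FiniteType R S]
    [AddCommGroup M] [Module S M] [Module R M] [IsScalarTower R S M] [Module.Finite S M] :
    ∃ (n a : ℕ) (π : MvPolynomial (Fin n) R →ₐ[R] S)
      (K : Submodule (MvPolynomial (Fin n) R) (FreeMod R a n)), Function.Surjective π ∧ ∀ q : PrimeSpectrum S,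
        (Module.Flat R (LocalizedModule q.asIdeal.primeCompl M) ↔ PrimeSpectrum.comap π.toRingHom q ∈ flatSet K) := by
  obtain ⟨n, π, hπ⟩ := Algebra.FiniteType.iff_quotient_mvPolynomial''.mp ‹Algebra.FiniteType R S›
  letI : Algebra (MvPolynomial (Fin n) R) S := π.toRingHom.toAlgebra
  letI : Module (MvPolynomial (Fin n) R) M := Module.compHom M π.toRingHom
  haveI : IsScalarTower (MvPolynomial (Fin n) R) S M := .of_algebraMap_smul fun _ _ => rfl
  haveI : IsScalarTower R (MvPolynomial (Fin n) R) M := .of_algebraMap_smul fun r m => by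
    show π (algebraMap R (MvPolynomial (Fin n) R) r) • m = r • m
    rw [π.commutes, algebraMap_smul]
  obtain ⟨a, q₀, hq₀⟩ := Module.Finite.exists_fin' S M
  have hsurj : Function.Surjective (genMap (R := R) (n := n) q₀) := fun y => by
    obtain ⟨x, rfl⟩ := hq₀ y
    choose v hv using fun i => hπ (x i)
    exact ⟨v, congrArg q₀ (funext hv)⟩
  let e := LinearMap.quotKerEquivOfSurjective _ hsurj
  refine ⟨n, a, π, LinearMap.ker (genMap q₀), hπ, fun q => ?_⟩
  let P := PrimeSpectrum.comap π.toRingHom q
  have hP : Algebra.algebraMapSubmonoid S P.asIdeal.primeCompl = q.asIdeal.primeCompl := by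
    ext x
    constructor
    · rintro ⟨y, hy, rfl⟩; exact hy
    · intro hx
      obtain ⟨y, rfl⟩ := hπ x
      exact ⟨y, hx, rfl⟩
  haveI : IsLocalizedModule (Algebra.algebraMapSubmonoid S P.asIdeal.primeCompl)
      (LocalizedModule.mkLinearMap q.asIdeal.primeCompl M) := by
    rw [hP]; infer_instance
  let g : M →ₗ[MvPolynomial (Fin n) R] LocalizedModule q.asIdeal.primeCompl M :=
    (LocalizedModule.mkLinearMap q.asIdeal.primeCompl M).restrictScalars _
  haveI : IsLocalizedModule P.asIdeal.primeCompl g := IsLocalizedModule.restrictScalars _ _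
  haveI : IsLocalizedModule P.asIdeal.primeCompl (g ∘ₗ e.toLinearMap) :=
    IsLocalizedModule.of_linearEquiv_right _ _ _
  rw [mem_flatSet_iff]
  exact flat_iff_rel _ _ (g ∘ₗ e.toLinearMap)

end Groth.Agent.RGFlatLib
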