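import Groth.Agent.RGFlatLib.Fibre
import Groth.Agent.GenFree.Algebra
import Groth.Prelude.Def_FlatCA

/-!
# Finitely many weakly associated primes, dense opens, and global finite presentation
-/

set_option autoImplicit false
set_option linter.style.haveILetI false
set_option linter.unusedSectionVars false
set_option maxHeartbeats 1000000
set_option backward.isDefEq.respectTransparency false

universe u

open MvPolynomial TensorProduct Groth.Agent.GenFree Groth.Agent.FlatLocus

noncomputable section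

namespace Groth.Agent.RGFlatLib

variable {R : Type u} [CommRing R]

/-- Outside the weakly associated primes below `p` scalars are regular at `p`. -/
theorem exists_notMem_mul_eq_zero (p : Ideal R) [p.IsPrime] {c : R}
    (hc : ∀ P ∈ FlatCA.weakAss R R, P ≤ p → c ∉ P) {r : R} (hr : c * r = 0) : ∃ d ∉ p, d * r = 0 := by
  by_contra hcon
  push Not at hcon
  have hle : (Submodule.span R {r}).annihilator ≤ p := fun d hd => by
    by_contra hdp
    exact hcon d hdp (by simpa [Submodule.mem_annihilator_span_singleton] using hd)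
  obtain ⟨P, hP, hPp⟩ := Ideal.exists_minimalPrimes_le hle
  exact hc P ⟨r, hP⟩ hPp (hP.1.2 (by simpa [Submodule.mem_annihilator_span_singleton] using hr))

/-- A torsion element of a flat local module sits over a weakly associated prime. -/
theorem mem_weakAss_of_torsion {N : Type u} [AddCommGroup N] [Module R N] [Module.Flat R N]
    (hR : (FlatCA.weakAss R R).Finite) (p : Ideal R) [p.IsPrime]
    (hN : ∀ d ∉ p, ∀ x : N, d • x = 0 → x = 0) {z : N} (hz : z ≠ 0) (hp : ∀ c ∈ p, ∃ k : ℕ, c ^ k • z = 0) :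
    p ∈ FlatCA.weakAss R R := by
  classical
  by_contra hcon
  let W := hR.toFinset.filter (· ≤ p)
  have hWp : ∀ P ∈ W, P.IsPrime := fun P hP => by
    obtain ⟨m, hm⟩ := hR.mem_toFinset.mp (Finset.mem_filter.mp hP).1
    exact hm.1.1
  obtain ⟨c, hcp, hc⟩ : ∃ c ∈ p, ∀ P ∈ W, c ∉ P := by
    by_contra h
    push Not at h
    have hsub : (p : Set R) ⊆ ⋃ P ∈ (W : Set (Ideal R)), (P : Set R) := fun c hc => by
      obtain ⟨P, hP, hcP⟩ := h c hc
      exact Set.mem_biUnion hP hcP
    obtain ⟨P, hP, hpP⟩ := (Ideal.subset_union_prime ⊥ ⊥ fun P hP _ _ => hWp P hP).mp hsub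
    obtain ⟨hPW, hPp⟩ := Finset.mem_filter.mp hP
    exact hcon (le_antisymm hPp hpP ▸ hR.mem_toFinset.mp hPW)
  have hreg : ∀ x : N, c • x = 0 → x = 0 := fun x hx => by
    let μ : R →ₗ[R] R := LinearMap.lsmul R R c
    obtain ⟨w, hw⟩ := (Module.Flat.lTensor_exact N (LinearMap.exact_subtype_ker_map μ) (x ⊗ₜ[R] (1 : R))).mp (by
      rw [LinearMap.lTensor_tmul, LinearMap.lsmul_apply, ← TensorProduct.smul_tmul, hx, TensorProduct.zero_tmul])
    have key : ∀ w : N ⊗[R] LinearMap.ker μ, ∃ d ∉ p, d • TensorProduct.rid R N ((LinearMap.ker μ).subtype.lTensor N w) = 0 := by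
      intro w
      induction w using TensorProduct.induction_on with
      | zero => exact ⟨1, (Ideal.ne_top_iff_one p).mp (Ideal.IsPrime.ne_top ‹_›), by simp⟩
      | tmul y r =>
        obtain ⟨d, hd, hdr⟩ := exists_notMem_mul_eq_zero p
          (fun P hP hPp => hc P (Finset.mem_filter.mpr ⟨hR.mem_toFinset.mpr hP, hPp⟩)) (show c * (r : R) = 0 from r.2)
        exact ⟨d, hd, by simp [smul_smul, hdr]⟩
      | add w₁ w₂ h₁ h₂ =>
        obtain ⟨d, hd, h₁⟩ := h₁
        obtain ⟨e, he, h₂⟩ := h₂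
        refine ⟨d * e, fun h => (Ideal.IsPrime.mem_or_mem ‹_› h).elim hd he, ?_⟩
        rw [map_add, map_add, smul_add, mul_comm d e, mul_smul, h₁, smul_zero, zero_add, mul_comm e d, mul_smul, h₂,
          smul_zero]
    obtain ⟨d, hd, hdw⟩ := key w
    rw [hw, TensorProduct.rid_tmul, one_smul] at hdw
    exact hN d hd x hdw
  obtain ⟨k, hk⟩ := hp c hcp
  refine hz ?_
  clear hp
  induction k with
  | zero => simpa using hk
  | succ k ih => exact ih (hreg _ (by rw [smul_smul, ← pow_succ']; exact hk))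

variable {a n : ℕ}

/-- With finitely many weakly associated primes, relations spread from a point to a neighbourhood. -/
theorem exists_nhds_weakAss (hR : (FlatCA.weakAss R R).Finite)
    (K : Submodule (MvPolynomial (Fin n) R) (FreeMod R a n))
    (Q : PrimeSpectrum (MvPolynomial (Fin n) R)) (hQ : Q ∈ flatSet K) :
    ∃ (K' : Submodule (MvPolynomial (Fin n) R) (FreeMod R a n)) (U : Set (PrimeSpectrum (MvPolynomial (Fin n) R))),
      K'.FG ∧ K' ≤ K ∧ IsOpen U ∧ Q ∈ U ∧ U ⊆ flatSet K' ∧ ∀ Q' ∈ U, K ≤ Sat Q'.asIdeal.primeCompl K' := by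
  classical
  obtain ⟨K', hfg, hle, hsat, hQ'⟩ := exists_fg_le_sat K Q hQ
  let P := MvPolynomial (Fin n) R
  haveI : Module.Finite P (FreeMod R a n ⧸ K') := Module.Finite.of_surjective K'.mkQ K'.mkQ_surjective
  have hprime : ∀ p : hR.toFinset, (p : Ideal R).IsPrime := fun p => by
    obtain ⟨m, hm⟩ := hR.mem_toFinset.mp p.2
    exact hm.1.1
  choose t ht hkill using fun p : hR.toFinset => haveI := hprime p
    UnivInjFib.exists_kill_fibre (A := R) Q.asIdeal.primeCompl
      (LocalizedModule.mkLinearMap Q.asIdeal.primeCompl (FreeMod R a n ⧸ K')) (p : Ideal R).ResidueField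
  refine ⟨K', flatSet K' ∩ PrimeSpectrum.basicOpen (∏ p, t p), hfg, hle,
    (isOpen_flatSet K' hfg).inter (PrimeSpectrum.basicOpen _).isOpen,
    ⟨hQ', Q.asIdeal.primeCompl.prod_mem fun p _ => ht p⟩, Set.inter_subset_left, fun Q' hQ'' x hx => ?_⟩
  obtain ⟨s, hs, hsx⟩ := hsat hx
  by_contra hnot
  have hle' : K'.colon {x} ≤ Q'.asIdeal := fun b hb => by
    by_contra hbQ
    exact hnot ⟨b, hbQ, Submodule.mem_colon_singleton.mp hb⟩
  obtain ⟨Q₀, hmin, hQ₀⟩ := Ideal.exists_minimalPrimes_le hle'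
  haveI := hmin.1.1
  let q₀ : PrimeSpectrum P := ⟨Q₀, hmin.1.1⟩
  have hflat : q₀ ∈ flatSet K' := mem_flatSet_iff.mpr fun I =>
    (mem_flatSet_iff.mp hQ''.1 I).mono fun _ hb hbQ => hb (hQ₀ hbQ)
  haveI : Module.Flat R (LocalizedModule Q₀.primeCompl (FreeMod R a n ⧸ K')) := hflat
  let g := LocalizedModule.mkLinearMap Q₀.primeCompl (FreeMod R a n ⧸ K')
  have hz : g (K'.mkQ x) ≠ 0 := fun h => by
    obtain ⟨d, hd⟩ := (IsLocalizedModule.eq_zero_iff Q₀.primeCompl g).mp h
    exact d.2 (hmin.1.2 (Submodule.mem_colon_singleton.mpr ((Submodule.Quotient.mk_eq_zero K').mp hd)))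
  let p : Ideal R := Q₀.comap (C : R →+* P)
  have hp : p ∈ FlatCA.weakAss R R := by
    refine mem_weakAss_of_torsion hR p (fun d hd y hy => ?_) hz fun c hc => ?_
    · rw [← algebraMap_smul P d y] at hy
      exact ((Module.End.isUnit_iff _).mp (IsLocalizedModule.map_units g (⟨algebraMap R P d, hd⟩ : Q₀.primeCompl))).1
        (hy.trans (map_zero _).symm)
    · have h1 : algebraMap P (Localization.AtPrime Q₀) (C c) ∈
          ((K'.colon {x}).map (algebraMap P (Localization.AtPrime Q₀))).radical := by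
        rw [IsLocalization.AtPrime.radical_map_of_mem_minimalPrimes (Localization.AtPrime Q₀) Q₀ _ hmin]
        exact Ideal.mem_map_of_mem _ hc
      obtain ⟨k, hk⟩ := h1
      rw [← map_pow, IsLocalization.algebraMap_mem_map_algebraMap_iff Q₀.primeCompl] at hk
      obtain ⟨e, he, hek⟩ := hk
      refine ⟨k, ((Module.End.isUnit_iff _).mp (IsLocalizedModule.map_units g (⟨e, he⟩ : Q₀.primeCompl))).1 ?_⟩
      rw [map_zero]
      show e • c ^ k • g (K'.mkQ x) = 0
      rw [← algebraMap_smul P (c ^ k), ← map_smul, ← map_smul, ← map_smul, ← map_smul, smul_smul,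
        MvPolynomial.algebraMap_eq, map_pow,
        show K'.mkQ ((e * C c ^ k) • x) = 0 from
          (Submodule.Quotient.mk_eq_zero K').mpr (Submodule.mem_colon_singleton.mp hek), map_zero]
  haveI := hprime ⟨p, hR.mem_toFinset.mpr hp⟩
  have ht0 : t ⟨p, hR.mem_toFinset.mpr hp⟩ ∉ Q₀ := fun h => hQ''.2 (Ideal.mem_of_dvd _
    (Finset.dvd_prod_of_mem t (Finset.mem_univ _)) (hQ₀ h))
  obtain ⟨d, hd, hdx⟩ := mem_sat_of_kill hfg Q p (hkill ⟨p, hR.mem_toFinset.mpr hp⟩) q₀ hflat rfl ht0 hs hsx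
  exact hd (hmin.1.2 (Submodule.mem_colon_singleton.mpr hdx))

/-- Scalars jointly injective on the base detect membership at flat points. -/
theorem mem_sat_of_dense {m : ℕ} (f : Fin m → R)
    (hf : ∀ r : R, (∀ i, ∃ k : ℕ, f i ^ k * r = 0) → r = 0)
    {K' : Submodule (MvPolynomial (Fin n) R) (FreeMod R a n)} (Q : PrimeSpectrum (MvPolynomial (Fin n) R))
    (hQ : Q ∈ flatSet K') {x : FreeMod R a n}
    (hx : ∀ i, ∃ k : ℕ, (C (f i) : MvPolynomial (Fin n) R) ^ k • x ∈ K') : x ∈ Sat Q.asIdeal.primeCompl K' := by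
  choose k hk using hx
  let φ : R →ₗ[R] (Fin m → R) := LinearMap.pi fun i => LinearMap.lsmul R R (f i ^ k i)
  have hφ : Function.Injective φ := (injective_iff_map_eq_zero φ).mpr fun r hr => hf r fun i => ⟨k i, congrFun hr i⟩
  haveI : Module.Flat R (LocalizedModule Q.asIdeal.primeCompl (FreeMod R a n ⧸ K')) := hQ
  let g := LocalizedModule.mkLinearMap Q.asIdeal.primeCompl (FreeMod R a n ⧸ K')
  let z := g (K'.mkQ x)
  have hzero : ∀ i, f i ^ k i • z = 0 := fun i => by
    rw [← algebraMap_smul (MvPolynomial (Fin n) R) (f i ^ k i), ← map_smul, ← map_smul, MvPolynomial.algebraMap_eq,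
      map_pow, show K'.mkQ ((C (f i) : MvPolynomial (Fin n) R) ^ k i • x) = 0 from (Submodule.Quotient.mk_eq_zero K').mpr (hk i),
      map_zero]
  have h0 : φ.lTensor _ (z ⊗ₜ[R] (1 : R)) = 0 := by
    apply (TensorProduct.piRight R R _ fun _ : Fin m => R).injective
    rw [map_zero, LinearMap.lTensor_tmul, TensorProduct.piRight_apply, TensorProduct.piRightHom_tmul]
    funext i
    show z ⊗ₜ[R] (f i ^ k i • (1 : R)) = 0
    rw [← TensorProduct.smul_tmul, hzero, TensorProduct.zero_tmul]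
  have hz1 : z ⊗ₜ[R] (1 : R) = 0 :=
    Module.Flat.lTensor_preserves_injective_linearMap (M := LocalizedModule Q.asIdeal.primeCompl (FreeMod R a n ⧸ K'))
      φ hφ (by rw [h0, map_zero])
  have hz : z = 0 := by
    have := congrArg (TensorProduct.rid R _) hz1
    rwa [TensorProduct.rid_tmul, one_smul, map_zero] at this
  obtain ⟨d, hd⟩ := (IsLocalizedModule.eq_zero_iff Q.asIdeal.primeCompl g).mp hz
  exact ⟨d.1, d.2, (Submodule.Quotient.mk_eq_zero K').mp hd⟩

/-- Local finite generation over a basic open gives finitely many relations away from it. -/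
theorem exists_fg_le_sat_powers (K : Submodule (MvPolynomial (Fin n) R) (FreeMod R a n))
    (g : MvPolynomial (Fin n) R)
    (h : ∀ Q ∈ PrimeSpectrum.basicOpen g, ∃ (K' : Submodule (MvPolynomial (Fin n) R) (FreeMod R a n))
      (U : Set (PrimeSpectrum (MvPolynomial (Fin n) R))), K'.FG ∧ K' ≤ K ∧ IsOpen U ∧ Q ∈ U ∧
        ∀ Q' ∈ U, K ≤ Sat Q'.asIdeal.primeCompl K') :
    ∃ K', K'.FG ∧ K' ≤ K ∧ K ≤ Sat (Submonoid.powers g) K' := by
  classical
  choose K' U hfg hle hU hmem hsat using fun Q : (PrimeSpectrum.basicOpen g :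
    TopologicalSpace.Opens (PrimeSpectrum (MvPolynomial (Fin n) R))) => h Q.1 Q.2
  obtain ⟨s, hs⟩ := (PrimeSpectrum.isCompact_basicOpen g).elim_finite_subcover U hU
    (fun Q hQ => Set.mem_iUnion.mpr ⟨⟨Q, hQ⟩, hmem ⟨Q, hQ⟩⟩)
  refine ⟨s.sup K', Submodule.fg_finset_sup s K' fun Q _ => hfg Q, Finset.sup_le fun Q _ => hle Q, fun x hx => ?_⟩
  by_contra hx'
  obtain ⟨P, hP, hle', hdis⟩ := Ideal.exists_le_prime_disjoint ((s.sup K').colon {x}) (Submonoid.powers g)
    (Set.disjoint_right.mpr fun b hb hb' => hx' ⟨b, hb, Submodule.mem_colon_singleton.mp hb'⟩)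
  obtain ⟨Q, hQs, hQ⟩ := Set.mem_iUnion₂.mp (hs (show (⟨P, hP⟩ : PrimeSpectrum _) ∈ PrimeSpectrum.basicOpen g from
    fun hg => Set.disjoint_left.mp hdis hg (Submonoid.mem_powers g)))
  obtain ⟨t, ht, htx⟩ := hsat Q _ hQ hx
  exact ht (hle' (Submodule.mem_colon_singleton.mpr (Finset.le_sup (f := K') hQs htx)))

end Groth.Agent.RGFlatLib
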