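import Groth.Agent.RGFlatLib.Assassin
import Groth.Agent.FlatLocus.Gen

/-!
# Finite presentation away from an element and over dense opens
-/

set_option autoImplicit false
set_option linter.style.haveILetI false
set_option linter.unusedSectionVars false
set_option maxHeartbeats 1000000
set_option backward.isDefEq.respectTransparency false

universe u

open MvPolynomial Groth.Agent.GenFree Groth.Agent.FlatLocus

noncomputable section

namespace Groth.Agent.RGFlatLib

variable {R : Type u} [CommRing R] {a n : ℕ}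

section Quot

variable {S M : Type u} [CommRing S] [Algebra (MvPolynomial (Fin n) R) S] [AddCommGroup M] [Module S M]
  [Module (MvPolynomial (Fin n) R) M] [IsScalarTower (MvPolynomial (Fin n) R) S M]

theorem genMap_surjective (hπ : Function.Surjective (algebraMap (MvPolynomial (Fin n) R) S))
    (q₀ : (Fin a → S) →ₗ[S] M) (hq₀ : Function.Surjective q₀) : Function.Surjective (genMap (R := R) (n := n) q₀) :=
  fun y => by
    obtain ⟨x, rfl⟩ := hq₀ y
    choose v hv using fun i => hπ (x i)
    exact ⟨v, congrArg q₀ (funext hv)⟩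

theorem flat_iff_mem_flatSet [Module R M] [IsScalarTower R (MvPolynomial (Fin n) R) M] [Algebra R S]
    [IsScalarTower R S M] [IsScalarTower R (MvPolynomial (Fin n) R) S]
    (hπ : Function.Surjective (algebraMap (MvPolynomial (Fin n) R) S))
    (q₀ : (Fin a → S) →ₗ[S] M) (hq₀ : Function.Surjective q₀) (q : PrimeSpectrum S) :
    Module.Flat R (LocalizedModule q.asIdeal.primeCompl M) ↔
      PrimeSpectrum.comap (algebraMap (MvPolynomial (Fin n) R) S) q ∈ flatSet (LinearMap.ker (genMap (R := R) (n := n) q₀)) := by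
  let e := LinearMap.quotKerEquivOfSurjective _ (genMap_surjective hπ q₀ hq₀)
  let P := PrimeSpectrum.comap (algebraMap (MvPolynomial (Fin n) R) S) q
  have hP : Algebra.algebraMapSubmonoid S P.asIdeal.primeCompl = q.asIdeal.primeCompl := by
    ext x
    constructor
    · rintro ⟨y, hy, rfl⟩; exact hy
    · intro hx
      obtain ⟨y, rfl⟩ := hπ x
      exact ⟨y, hx, rfl⟩
  haveI : IsLocalizedModule (Algebra.algebraMapSubmonoid S P.asIdeal.primeCompl)
      (LocalizedModule.mkLinearMap q.asIdeal.primeCompl M) := by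
    rw [hP]; infer_instance
  let g : M →ₗ[MvPolynomial (Fin n) R] LocalizedModule q.asIdeal.primeCompl M :=
    (LocalizedModule.mkLinearMap q.asIdeal.primeCompl M).restrictScalars _
  haveI : IsLocalizedModule P.asIdeal.primeCompl g := IsLocalizedModule.restrictScalars _ _
  haveI : IsLocalizedModule P.asIdeal.primeCompl (g ∘ₗ e.toLinearMap) :=
    IsLocalizedModule.of_linearEquiv_right _ _ _
  rw [mem_flatSet_iff]
  exact flat_iff_rel _ _ (g ∘ₗ e.toLinearMap)

/-- Outside the closed subscheme all relations come from one element of its ideal. -/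
theorem exists_nhds_of_notMem (q₀ : (Fin a → S) →ₗ[S] M) (Q : PrimeSpectrum (MvPolynomial (Fin n) R))
    {h : MvPolynomial (Fin n) R} (h0 : algebraMap (MvPolynomial (Fin n) R) S h = 0) (hQ : h ∉ Q.asIdeal) :
    ∃ (K' : Submodule (MvPolynomial (Fin n) R) (FreeMod R a n)) (U : Set (PrimeSpectrum (MvPolynomial (Fin n) R))),
      K'.FG ∧ K' ≤ LinearMap.ker (genMap q₀) ∧ IsOpen U ∧ Q ∈ U ∧
        ∀ Q' ∈ U, LinearMap.ker (genMap q₀) ≤ Sat Q'.asIdeal.primeCompl K' := by
  refine ⟨LinearMap.range (h • LinearMap.id), PrimeSpectrum.basicOpen h, ?_, ?_, (PrimeSpectrum.basicOpen h).isOpen,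
    hQ, fun Q' hQ' x _ => ⟨h, hQ', x, rfl⟩⟩
  · rw [LinearMap.range_eq_map]
    exact Module.Finite.fg_top.map _
  · rintro _ ⟨x, rfl⟩
    show q₀ (fun i => algebraMap _ S (h * x i)) = 0
    simp only [map_mul, h0, zero_mul]
    exact map_zero q₀

/-- Flat on a basic open, with finitely many weakly associated primes, gives finitely many relations there. -/
theorem exists_fg_le_sat_weakAss [Module R M] [IsScalarTower R (MvPolynomial (Fin n) R) M] [Algebra R S]
    [IsScalarTower R S M] [IsScalarTower R (MvPolynomial (Fin n) R) S] (hR : (FlatCA.weakAss R R).Finite)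
    (hπ : Function.Surjective (algebraMap (MvPolynomial (Fin n) R) S))
    (q₀ : (Fin a → S) →ₗ[S] M) (hq₀ : Function.Surjective q₀) (g' : MvPolynomial (Fin n) R)
    (hg : ∀ q : PrimeSpectrum S, algebraMap _ S g' ∉ q.asIdeal →
      Module.Flat R (LocalizedModule q.asIdeal.primeCompl M)) :
    ∃ K', K'.FG ∧ K' ≤ LinearMap.ker (genMap q₀) ∧
      LinearMap.ker (genMap (R := R) (n := n) q₀) ≤ Sat (Submonoid.powers g') K' := by
  refine exists_fg_le_sat_powers _ g' fun Q hQ => ?_
  by_cases hker : RingHom.ker (algebraMap (MvPolynomial (Fin n) R) S) ≤ Q.asIdeal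
  · haveI := Ideal.map_isPrime_of_surjective hπ hker
    let q : PrimeSpectrum S := ⟨Q.asIdeal.map (algebraMap _ S), inferInstance⟩
    have hq : PrimeSpectrum.comap (algebraMap (MvPolynomial (Fin n) R) S) q = Q := PrimeSpectrum.ext (by
      rw [PrimeSpectrum.comap_asIdeal, Ideal.comap_map_of_surjective _ hπ, sup_eq_left]
      exact hker)
    have hfl := hg q fun h => hQ (by rw [← hq]; exact h)
    rw [flat_iff_mem_flatSet hπ q₀ hq₀, hq] at hfl
    obtain ⟨K', U, h1, h2, h3, h4, -, h6⟩ := exists_nhds_weakAss hR _ Q hfl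
    exact ⟨K', U, h1, h2, h3, h4, h6⟩
  · obtain ⟨h, h0, hQh⟩ := SetLike.not_le_iff_exists.mp hker
    exact exists_nhds_of_notMem q₀ Q h0 hQh

end Quot

theorem isUnit_algebraMap_powers {B C : Type u} [CommRing B] [CommRing C] [Algebra B C] {g : B}
    (h : IsUnit (algebraMap B C g)) : ∀ t ∈ Submonoid.powers g, IsUnit (algebraMap B C t) := by
  rintro _ ⟨k, rfl⟩
  rw [map_pow]
  exact h.pow k

/-- Finite presentation and flatness on a basic open inside the flat locus. -/
theorem fp_and_flat_away {S M : Type u} [CommRing S] [Algebra R S] [Algebra.FiniteType R S]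
    [AddCommGroup M] [Module S M] [Module R M] [IsScalarTower R S M] [Module.Finite S M]
    (hR : (FlatCA.weakAss R R).Finite) (g : S)
    (hg : ∀ q : PrimeSpectrum S, g ∉ q.asIdeal → Module.Flat R (LocalizedModule q.asIdeal.primeCompl M)) :
    Module.FinitePresentation (Localization.Away g) (LocalizedModule (Submonoid.powers g) M) ∧
      Module.Flat R (LocalizedModule (Submonoid.powers g) M) := by
  classical
  refine ⟨?_, flat_localized_of_forall_prime (Submonoid.powers g) (LocalizedModule.mkLinearMap _ M) fun P hP hdis =>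
    hg ⟨P, hP⟩ fun h => Set.disjoint_left.mp hdis (Submonoid.mem_powers g) h⟩
  obtain ⟨n, π, hπ⟩ := Algebra.FiniteType.iff_quotient_mvPolynomial''.mp ‹Algebra.FiniteType R S›
  obtain ⟨a, q₀, hq₀⟩ := Module.Finite.exists_fin' S M
  letI : Algebra (MvPolynomial (Fin n) R) S := π.toRingHom.toAlgebra
  letI : Module (MvPolynomial (Fin n) R) M := Module.compHom M π.toRingHom
  haveI : IsScalarTower (MvPolynomial (Fin n) R) S M := .of_algebraMap_smul fun _ _ => rfl
  haveI : IsScalarTower R (MvPolynomial (Fin n) R) M := .of_algebraMap_smul fun r m => by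
    show π (algebraMap R (MvPolynomial (Fin n) R) r) • m = r • m
    rw [π.commutes, algebraMap_smul]
  haveI : IsScalarTower R (MvPolynomial (Fin n) R) S := .of_algebraMap_eq fun r => (π.commutes r).symm
  obtain ⟨g', rfl⟩ := hπ g
  obtain ⟨K', hfg, hle, hsat⟩ := exists_fg_le_sat_weakAss hR hπ q₀ hq₀ g' hg
  let em : FreeMod R a n →ₗ[MvPolynomial (Fin n) R] (Fin a → S) :=
    LinearMap.pi fun i => Algebra.linearMap _ S ∘ₗ LinearMap.proj i
  obtain ⟨s, rfl⟩ := hfg
  let W : Submodule S (Fin a → S) := Submodule.span S (em '' (s : Set (FreeMod R a n)))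
  have hW : W ≤ LinearMap.ker q₀ := by
    rw [Submodule.span_le]
    rintro _ ⟨v, hv, rfl⟩
    exact LinearMap.mem_ker.mpr (LinearMap.mem_ker.mp (hle (Submodule.subset_span hv)))
  refine fp_localizedModule (π g') W (Submodule.fg_span (s.finite_toSet.image em)) (Submodule.liftQ W q₀ hW)
    (fun y => (hq₀ y).imp' Submodule.Quotient.mk fun x hx => hx) fun x hx => ?_
  obtain ⟨x, rfl⟩ := Submodule.Quotient.mk_surjective _ x
  obtain ⟨v, rfl⟩ : ∃ v, em v = x := ⟨fun i => (hπ (x i)).choose, funext fun i => (hπ (x i)).choose_spec⟩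
  obtain ⟨_, ⟨k, rfl⟩, hk⟩ := hsat (show v ∈ LinearMap.ker (genMap q₀) from LinearMap.mem_ker.mpr hx)
  refine ⟨k, ?_⟩
  rw [← Submodule.Quotient.mk_smul, Submodule.Quotient.mk_eq_zero,
    show π g' ^ k • em v = (g' ^ k) • em v by rw [← algebraMap_smul S (g' ^ k) (em v), map_pow]; rfl, ← map_smul]
  have h1 := Submodule.mem_map_of_mem (f := em) hk
  rw [Submodule.map_span] at h1
  exact Submodule.span_le_restrictScalars (MvPolynomial (Fin n) R) S _ h1

/-- The flat locus is open when there are finitely many weakly associated primes. -/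
theorem isOpen_flat_locus_weakAss {S M : Type u} [CommRing S] [Algebra R S] [Algebra.FiniteType R S]
    [AddCommGroup M] [Module S M] [Module R M] [IsScalarTower R S M] [Module.Finite S M]
    (hR : (FlatCA.weakAss R R).Finite) :
    IsOpen {q : PrimeSpectrum S | Module.Flat R (LocalizedModule q.asIdeal.primeCompl M)} := by
  obtain ⟨n, a, π, K, -, h⟩ := exists_flat_presentation (R := R) (S := S) (M := M)
  simp_rw [h]
  refine IsOpen.preimage (PrimeSpectrum.continuous_comap _) (isOpen_iff_forall_mem_open.mpr fun Q hQ => ?_)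
  obtain ⟨K', U, -, hle, hU, hQU, hflat, hsat⟩ := exists_nhds_weakAss hR K Q hQ
  exact ⟨U, fun Q' hQ' => mem_flatSet_congr (hsat Q' hQ') (hle.trans (le_sat _ _)) (hflat hQ'), hU, hQU⟩

/-- Finite presentation of the algebra on a basic open inside the flat locus. -/
theorem algebra_fp_away {S : Type u} [CommRing S] [Algebra R S] [Algebra.FiniteType R S]
    (hR : (FlatCA.weakAss R R).Finite) (g : S)
    (hg : ∀ q : PrimeSpectrum S, g ∉ q.asIdeal → Module.Flat R (LocalizedModule q.asIdeal.primeCompl S)) :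
    Algebra.FinitePresentation R (Localization.Away g) := by
  classical
  obtain ⟨n, π, hπ⟩ := Algebra.FiniteType.iff_quotient_mvPolynomial''.mp ‹Algebra.FiniteType R S›
  letI : Algebra (MvPolynomial (Fin n) R) S := π.toRingHom.toAlgebra
  haveI : IsScalarTower R (MvPolynomial (Fin n) R) S := .of_algebraMap_eq fun r => (π.commutes r).symm
  obtain ⟨g', rfl⟩ := hπ g
  let P := MvPolynomial (Fin n) R
  let q₀ : (Fin 1 → S) →ₗ[S] S := LinearMap.proj 0
  obtain ⟨K', hfg, hle, hsat⟩ := exists_fg_le_sat_weakAss hR hπ q₀ (fun y => ⟨fun _ => y, rfl⟩) g' hg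
  let J : Ideal P := K'.map (LinearMap.proj 0 : FreeMod R 1 n →ₗ[P] P)
  have hJ : ∀ x ∈ J, algebraMap P S x = 0 := by
    rintro _ ⟨v, hv, rfl⟩
    exact LinearMap.mem_ker.mp (hle hv)
  let S₀ := P ⧸ J
  haveI : Algebra.FinitePresentation R S₀ := Algebra.FinitePresentation.quotient (hfg.map _)
  let Sg := Localization.Away (π g')
  let h : S₀ →+* S := Ideal.Quotient.lift J (algebraMap P S) hJ
  letI : Algebra S₀ Sg := ((algebraMap S Sg).comp h).toAlgebra
  haveI : IsScalarTower R S₀ Sg := IsScalarTower.of_algebraMap_eq (R := R) (S := S₀) (A := Sg) fun r => by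
    show algebraMap R Sg r = algebraMap S Sg (h (Ideal.Quotient.mk J (algebraMap R P r)))
    rw [Ideal.Quotient.lift_mk, ← IsScalarTower.algebraMap_apply R P S, ← IsScalarTower.algebraMap_apply R S Sg]
  have hh : ∀ x, h (Ideal.Quotient.mk J x) = π x := fun x => Ideal.Quotient.lift_mk J _ _
  haveI : IsLocalization.Away (Ideal.Quotient.mk J g' : S₀) Sg := by
    refine ⟨⟨?_, fun b => ?_, ?_⟩⟩
    · rintro ⟨_, k, rfl⟩
      show IsUnit (algebraMap S Sg (h (Ideal.Quotient.mk J g' ^ k)))
      rw [map_pow, hh, map_pow]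
      exact (IsLocalization.Away.algebraMap_isUnit (π g')).pow k
    · obtain ⟨k, x, hx⟩ := IsLocalization.Away.surj (π g') b
      obtain ⟨x, rfl⟩ := hπ x
      refine ⟨⟨Ideal.Quotient.mk J x, ⟨_, k, rfl⟩⟩, ?_⟩
      show b * algebraMap S Sg (h (Ideal.Quotient.mk J g' ^ k)) = algebraMap S Sg (h (Ideal.Quotient.mk J x))
      rw [map_pow, hh, map_pow, hh]
      exact hx
    · intro x y hxy
      obtain ⟨x, rfl⟩ := Ideal.Quotient.mk_surjective x
      obtain ⟨y, rfl⟩ := Ideal.Quotient.mk_surjective y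
      have hxy' : algebraMap S Sg (π x) = algebraMap S Sg (π y) := by
        have hxy2 : algebraMap S Sg (h (Ideal.Quotient.mk J x)) = algebraMap S Sg (h (Ideal.Quotient.mk J y)) := hxy
        exact (congrArg (algebraMap S Sg) (hh x)).symm.trans (hxy2.trans (congrArg (algebraMap S Sg) (hh y)))
      obtain ⟨⟨_, k, rfl⟩, hc⟩ := (IsLocalization.eq_iff_exists (Submonoid.powers (π g')) Sg).mp hxy'
      obtain ⟨_, ⟨l, rfl⟩, hl⟩ := hsat (show (fun _ => g' ^ k * (x - y) : FreeMod R 1 n) ∈ LinearMap.ker (genMap q₀) from by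
        show π (g' ^ k * (x - y)) = 0
        rw [map_mul, map_pow, map_sub, mul_sub, sub_eq_zero]
        exact hc)
      refine ⟨⟨_, l + k, rfl⟩, ?_⟩
      show Ideal.Quotient.mk J g' ^ (l + k) * Ideal.Quotient.mk J x = Ideal.Quotient.mk J g' ^ (l + k) * Ideal.Quotient.mk J y
      rw [← map_pow, ← map_mul, ← map_mul, Ideal.Quotient.eq, ← mul_sub, pow_add, mul_assoc]
      exact ⟨_, hl, rfl⟩
  haveI : Algebra.FinitePresentation S₀ Sg := IsLocalization.Away.finitePresentation (Ideal.Quotient.mk J g')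
  exact Algebra.FinitePresentation.trans R S₀ Sg

/-- Relations of a localised map with finitely generated kernel come from finitely many relations. -/
theorem exists_fg_ker_le_sat {B : Type u} [CommRing B] {s : B} {F M' : Type u} [AddCommGroup F] [Module B F]
    [AddCommGroup M'] [Module B M'] (u : F →ₗ[B] M') {Bs : Type u} [CommRing Bs] [Algebra B Bs]
    [IsLocalization.Away s Bs] {Fs : Type u} [AddCommGroup Fs] [Module B Fs] [Module Bs Fs] [IsScalarTower B Bs Fs]
    [Module Bs M'] [IsScalarTower B Bs M'] (j : F →ₗ[B] Fs) [IsLocalizedModule (Submonoid.powers s) j]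
    (Φ : Fs →ₗ[Bs] M') (hΦ : ∀ x, Φ (j x) = u x) (hker : (LinearMap.ker Φ).FG) :
    ∃ W : Submodule B F, W.FG ∧ W ≤ LinearMap.ker u ∧ LinearMap.ker u ≤ Sat (Submonoid.powers s) W := by
  classical
  obtain ⟨G, hG⟩ := hker
  choose x hx using fun z : Fs => IsLocalizedModule.surj (Submonoid.powers s) j z
  refine ⟨Submodule.span B (G.image fun z => (x z).1 : Set F), ⟨_, rfl⟩, ?_, fun v hv => ?_⟩
  · rw [Submodule.span_le, Finset.coe_image]
    rintro _ ⟨z, hz, rfl⟩
    show u (x z).1 = 0
    rw [← hΦ, ← hx z, Submonoid.smul_def, ← algebraMap_smul Bs (x z).2.1, map_smul,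
      show Φ z = 0 from LinearMap.mem_ker.mp (hG ▸ Submodule.subset_span hz), smul_zero]
  · let W := Submodule.span B (G.image fun z => (x z).1 : Set F)
    suffices key : ∀ z ∈ LinearMap.ker Φ, ∃ c ∈ Submonoid.powers s, ∃ w ∈ W, c • z = j w by
      obtain ⟨c, hc, w, hw, hcw⟩ := key (j v) (by rw [LinearMap.mem_ker, hΦ]; exact hv)
      rw [← map_smul] at hcw
      obtain ⟨d, hd⟩ := IsLocalizedModule.exists_of_eq (S := Submonoid.powers s) (f := j) hcw
      refine ⟨d.1 * c, (Submonoid.powers s).mul_mem d.2 hc, ?_⟩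
      rw [mul_smul, show d.1 • c • v = d.1 • w from hd]
      exact W.smul_mem _ hw
    intro z hz
    rw [← hG] at hz
    induction hz using Submodule.span_induction with
    | mem z hz => exact ⟨(x z).2.1, (x z).2.2, (x z).1, Submodule.subset_span (Finset.mem_image_of_mem _ hz), hx z⟩
    | zero => exact ⟨1, one_mem _, 0, zero_mem _, by simp⟩
    | add y z _ _ hy hz =>
      obtain ⟨c, hc, w, hw, hcw⟩ := hy
      obtain ⟨d, hd, w', hw', hdw⟩ := hz
      refine ⟨c * d, mul_mem hc hd, d • w + c • w', add_mem (W.smul_mem _ hw) (W.smul_mem _ hw'), ?_⟩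
      rw [smul_add, map_add, map_smul, map_smul, ← hcw, ← hdw, smul_smul, smul_smul, mul_comm d c]
    | smul r z _ hz =>
      obtain ⟨c, hc, w, hw, hcw⟩ := hz
      obtain ⟨⟨b, d⟩, hbd⟩ := IsLocalization.surj (Submonoid.powers s) r
      refine ⟨d.1 * c, mul_mem d.2 hc, b • w, W.smul_mem _ hw, ?_⟩
      rw [map_smul, ← hcw, ← algebraMap_smul Bs (d.1 * c), ← algebraMap_smul Bs b, ← algebraMap_smul Bs c, smul_smul,
        smul_smul, ← hbd, map_mul]
      ring_nf

/-- Finitely many relations on a dense family of basic opens give finitely many relations. -/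
theorem fg_of_dense {m : ℕ} (f : Fin m → R) (hf : ∀ r : R, (∀ i, ∃ k : ℕ, f i ^ k * r = 0) → r = 0)
    (K : Submodule (MvPolynomial (Fin n) R) (FreeMod R a n)) (hK : flatSet K = Set.univ)
    (h : ∀ i, ∃ W, W.FG ∧ W ≤ K ∧ K ≤ Sat (Submonoid.powers (C (f i) : MvPolynomial (Fin n) R)) W) : K.FG := by
  classical
  choose W hWfg hWle hWsat using h
  obtain ⟨K', hfg, hle, hsat⟩ := exists_fg_le_sat_powers K 1 fun Q _ => by
    obtain ⟨K₁, h1, hle1, hs1, -⟩ := exists_fg_le_sat K Q (hK ▸ Set.mem_univ Q)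
    let K₂ := K₁ ⊔ Finset.univ.sup W
    have hle2 : K₂ ≤ K := sup_le hle1 (Finset.sup_le fun i _ => hWle i)
    refine ⟨K₂, flatSet K₂, h1.sup (Submodule.fg_finset_sup _ W fun i _ => hWfg i), hle2,
      isOpen_flatSet K₂ (h1.sup (Submodule.fg_finset_sup _ W fun i _ => hWfg i)),
      mem_flatSet_congr (hle2.trans (le_sat _ _)) (hs1.trans (sat_mono le_rfl le_sup_left)) (hK ▸ Set.mem_univ Q),
      fun Q' hQ' x hx => mem_sat_of_dense f hf Q' hQ' fun i => ?_⟩
    obtain ⟨_, ⟨k, rfl⟩, hk⟩ := hWsat i hx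
    exact ⟨k, Submodule.mem_sup_right (Finset.le_sup (f := W) (Finset.mem_univ i) hk)⟩
  suffices hKK : K = K' by rw [hKK]; exact hfg
  refine le_antisymm (fun x hx => ?_) hle
  obtain ⟨_, ⟨k, rfl⟩, hk⟩ := hsat hx
  simpa using hk

end Groth.Agent.RGFlatLib
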