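import Groth.Agent.FlatLocus.Main
import Groth.Agent.FlatLocus.Syzygy
import Groth.Agent.UnivInjFib.BaseChange

/-!
# Saturations, fibres and flatness of quotients of free modules over polynomial rings
-/

set_option autoImplicit false
set_option linter.style.haveILetI false

universe u

open MvPolynomial TensorProduct Groth.Agent.GenFree Groth.Agent.FlatLocus

noncomputable section

namespace Groth.Agent.RGFlatLib

section Sat

variable {B M : Type u} [CommRing B] [AddCommGroup M] [Module B M] {T : Submonoid B}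

theorem sat_sat (L : Submodule B M) : Sat T (Sat T L) ≤ Sat T L :=
  fun _ ⟨_, hs, hy⟩ => mem_sat_of_smul hs hy

theorem sat_le {L L' : Submodule B M} (h : L ≤ Sat T L') : Sat T L ≤ Sat T L' :=
  (sat_mono le_rfl h).trans (sat_sat L')

theorem smul_sat_le (I : Ideal B) (L : Submodule B M) : I • Sat T L ≤ Sat T (I • L) :=
  Submodule.smul_le.mpr fun c hc x ⟨s, hs, hx⟩ =>
    ⟨s, hs, by rw [smul_comm]; exact Submodule.smul_mem_smul hc hx⟩

end Sat

variable {R : Type u} [CommRing R] {a n : ℕ}

theorem smul_cf_le (I I' : Ideal R) :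
    I.map (C : R →+* MvPolynomial (Fin n) R) • (cf I' : Submodule _ (FreeMod R a n)) ≤ cf (I * I') :=
  Submodule.smul_le.mpr fun c hc x hx => by
    simp only [cf, Submodule.mem_pi, Set.mem_univ, forall_true_left] at hx ⊢
    intro i
    rw [Ideal.map_mul, Pi.smul_apply, smul_eq_mul]
    exact Ideal.mul_mem_mul hc (hx i)

theorem cf_bot : (cf (⊥ : Ideal R) : Submodule _ (FreeMod R a n)) = ⊥ := by
  ext x
  rw [mem_cf, Submodule.mem_bot]
  exact ⟨fun h => ext_co fun i => by simpa using h i, fun h i => by simp [h]⟩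

theorem cf_mono {I I' : Ideal R} (h : I ≤ I') : (cf I : Submodule _ (FreeMod R a n)) ≤ cf I' :=
  fun _ hx => mem_cf.mpr fun i => h (mem_cf.mp hx i)

theorem mem_cf_of_phi_eq_zero {A : Type u} [CommRing A] [Algebra R A] {x : FreeMod R a n}
    (h : phi A x = 0) : x ∈ cf (RingHom.ker (algebraMap R A)) :=
  mem_cf.mpr fun i => by rw [RingHom.mem_ker, ← co_phi, h, map_zero]

/-- Elements of the extended module over a quotient ring lift. -/
theorem mem_sup_cf_of_phi {A : Type u} [CommRing A] [Algebra R A] (hA : Function.Surjective (algebraMap R A))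
    (N : Submodule (MvPolynomial (Fin n) R) (FreeMod R a n)) {x : FreeMod R a n}
    (h : phi A x ∈ locN A N) : x ∈ N ⊔ cf (RingHom.ker (algebraMap R A)) := by
  obtain ⟨v, hv, hvx⟩ := mem_image_of_mem_locN A hA N h
  exact Submodule.mem_sup.mpr ⟨v, hv, x - v, mem_cf_of_phi_eq_zero (by rw [map_sub, hvx, sub_self]),
    add_sub_cancel v x⟩

theorem phi_mem_locN_of_sup (A : Type u) [CommRing A] [Algebra R A] {I : Ideal R}
    (hI : I ≤ RingHom.ker (algebraMap R A)) (N : Submodule (MvPolynomial (Fin n) R) (FreeMod R a n))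
    {x : FreeMod R a n} (h : x ∈ N ⊔ cf I) : phi A x ∈ locN A N := by
  obtain ⟨v, hv, w, hw, rfl⟩ := Submodule.mem_sup.mp h
  have hw0 : phi A w = 0 := ext_co fun i => by
    rw [co_phi, map_zero]
    exact hI (mem_cf.mp hw i)
  rw [map_add, hw0, add_zero]
  exact phi_mem A N hv

theorem locN_mono (A : Type u) [CommRing A] [Algebra R A]
    {N N' : Submodule (MvPolynomial (Fin n) R) (FreeMod R a n)} (h : N ≤ N') : locN A N ≤ locN A N' :=
  Submodule.span_mono (Set.image_mono h)

theorem locN_fg (A : Type u) [CommRing A] [Algebra R A]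
    {N : Submodule (MvPolynomial (Fin n) R) (FreeMod R a n)} (h : N.FG) : (locN A N).FG := by
  classical
  obtain ⟨k, v, rfl⟩ := Submodule.fg_iff_exists_fin_generating_family.mp h
  rw [locN_span]
  exact Submodule.fg_span (Set.finite_range _)

/-- Submodules with the same saturation have the same flatness. -/
theorem mem_flatSet_congr {N U : Submodule (MvPolynomial (Fin n) R) (FreeMod R a n)}
    {q : PrimeSpectrum (MvPolynomial (Fin n) R)} (h₁ : N ≤ Sat q.asIdeal.primeCompl U)
    (h₂ : U ≤ Sat q.asIdeal.primeCompl N) (hU : q ∈ flatSet U) : q ∈ flatSet N := by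
  rw [mem_flatSet_iff] at hU ⊢
  rintro I x ⟨hxN, hxI⟩
  obtain ⟨s, hs, hsx⟩ := h₁ hxN
  refine mem_sat_of_smul hs ?_
  refine sat_le ?_ (hU I ⟨hsx, Submodule.smul_mem _ _ hxI⟩)
  exact (Submodule.smul_mono le_rfl h₂).trans (smul_sat_le _ _)

/-- Over a domain, a quotient flat at a prime has no torsion there. -/
theorem mem_sat_of_smul_mem [IsDomain R] {N : Submodule (MvPolynomial (Fin n) R) (FreeMod R a n)}
    {q : PrimeSpectrum (MvPolynomial (Fin n) R)} (hq : q ∈ flatSet N) {w : R} (hw : w ≠ 0)
    {x : FreeMod R a n} (hx : (C w : MvPolynomial (Fin n) R) • x ∈ N) : x ∈ Sat q.asIdeal.primeCompl N := by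
  obtain ⟨t, ht, htx⟩ := mem_flatSet_iff.mp hq (Ideal.span {w}) (show (C w : MvPolynomial (Fin n) R) • x ∈ N ⊓ cf _ from
    ⟨hx, mem_cf.mpr fun i => by
      rw [show (C w : MvPolynomial (Fin n) R) • x = w • x from algebraMap_smul _ w x, map_smul]
      exact Ideal.mul_mem_right _ _ (Ideal.mem_span_singleton_self w)⟩)
  rw [Ideal.map_span, Set.image_singleton, Submodule.ideal_span_singleton_smul] at htx
  obtain ⟨v, hv, hvx⟩ := (Submodule.mem_smul_pointwise_iff_exists _ _ _).mp htx
  refine ⟨t, ht, ?_⟩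
  have hC : (C w : MvPolynomial (Fin n) R) ≠ 0 := by simpa using hw
  rw [show t • x = v from funext fun i => mul_left_cancel₀ hC (by
    have := (congrFun hvx i).symm
    simpa [Pi.smul_apply, smul_eq_mul, mul_left_comm] using this)]
  exact hv

/-- A vector in a valuation ring is a multiple of a primitive one. -/
theorem exists_smul_eq [IsDomain R] [ValuationRing R] {I : Ideal R} {x : FreeMod R a n} (hx : x ∈ cf I)
    (hx0 : x ≠ 0) : ∃ c ∈ I, c ≠ 0 ∧ ∃ y : FreeMod R a n, (C c : MvPolynomial (Fin n) R) • y = x ∧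
      ∀ i, co i x = 0 → co i y = 0 := by
  classical
  let s := (finite_support x).toFinset
  have hs : s.Nonempty := by
    by_contra h
    exact hx0 (ext_co fun i => by
      by_contra hi
      exact h ⟨i, (finite_support x).mem_toFinset.mpr (by simpa using hi)⟩)
  have hmax : ∀ t : Finset (Idx a n), t.Nonempty → ∃ i₀ ∈ t, ∀ i ∈ t, co i₀ x ∣ co i x := by
    intro t ht
    induction ht using Finset.Nonempty.cons_induction with
    | singleton i => exact ⟨i, by simp, by simp⟩
    | cons i t hi _ ih =>
      obtain ⟨i₀, hi₀, hd⟩ := ih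
      rcases ValuationRing.dvd_total (co i₀ x) (co i x) with h | h
      · refine ⟨i₀, by simp [hi₀], fun j hj => ?_⟩
        rcases Finset.mem_cons.mp hj with rfl | hj
        · exact h
        · exact hd j hj
      · refine ⟨i, by simp, fun j hj => ?_⟩
        rcases Finset.mem_cons.mp hj with rfl | hj
        · exact dvd_rfl
        · exact h.trans (hd j hj)
  obtain ⟨i₀, hi₀, hd⟩ := hmax s hs
  have hd' : ∀ i, co i₀ x ∣ co i x := fun i => by
    by_cases h : co i x = 0
    · rw [h]; exact dvd_zero _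
    · exact hd i ((finite_support x).mem_toFinset.mpr h)
  choose d hdi using hd'
  have hc : co i₀ x ≠ 0 := (finite_support x).mem_toFinset.mp hi₀
  refine ⟨co i₀ x, mem_cf.mp hx i₀, hc, ∑ i ∈ s, d i • single i, ext_co fun i => ?_, fun i hi => ?_⟩
  · rw [show (C (co i₀ x) : MvPolynomial (Fin n) R) • (∑ j ∈ s, d j • single j : FreeMod R a n) =
      co i₀ x • ∑ j ∈ s, d j • single j from algebraMap_smul _ _ _]
    simp only [map_smul, map_sum, co_single, smul_eq_mul, mul_ite, mul_one, mul_zero, Finset.sum_ite_eq']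
    split_ifs with h
    · exact (hdi i).symm
    · exact (by by_contra h'; exact h ((finite_support x).mem_toFinset.mpr (Ne.symm h')))
  · simp only [map_smul, map_sum, co_single, smul_eq_mul, mul_ite, mul_one, mul_zero, Finset.sum_ite_eq']
    exact if_neg fun h => (finite_support x).mem_toFinset.mp h hi

/-- Over a valuation ring absence of torsion at a prime gives flatness. -/
theorem mem_flatSet_of_torsionFree [IsDomain R] [ValuationRing R]
    {N : Submodule (MvPolynomial (Fin n) R) (FreeMod R a n)} {q : PrimeSpectrum (MvPolynomial (Fin n) R)}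
    (h : ∀ (x : FreeMod R a n) (w : R), w ≠ 0 → (C w : MvPolynomial (Fin n) R) • x ∈ N → x ∈ Sat q.asIdeal.primeCompl N) :
    q ∈ flatSet N := by
  rw [mem_flatSet_iff]
  rintro I x ⟨hxN, hxI⟩
  rcases eq_or_ne x 0 with rfl | hx0
  · exact Submodule.zero_mem _
  obtain ⟨c, hc, hc0, y, rfl, -⟩ := exists_smul_eq hxI hx0
  refine smul_sat_le _ _ (Submodule.smul_mem_smul (Ideal.mem_map_of_mem _ hc) (h y c hc0 hxN))

section Fibre

variable (A : Type u) [CommRing A] [Algebra R A]

/-- Membership in an extended submodule, read in a tensor product. -/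
theorem mem_range_of_extMap_mem (N : Submodule (MvPolynomial (Fin n) R) (FreeMod R a n))
    {z : FreeMod R a n ⊗[R] A} (hz : extMap A z ∈ locN A N) :
    z ∈ LinearMap.range ((N.restrictScalars R).subtype.rTensor A) := by
  obtain ⟨w, hw⟩ := UnivInjFib.mem_range_of_mem_span N (mem_span_of_mem_locN A N hz)
  exact ⟨w, extMap_injective A hw⟩

theorem rTensor_mkQ_eq_zero (N : Submodule (MvPolynomial (Fin n) R) (FreeMod R a n))
    {z : FreeMod R a n ⊗[R] A} (hz : extMap A z ∈ locN A N) :
    (N.mkQ.restrictScalars R).rTensor A z = 0 := by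
  obtain ⟨w, rfl⟩ := mem_range_of_extMap_mem A N hz
  rw [← LinearMap.comp_apply, ← LinearMap.rTensor_comp,
    show (N.mkQ.restrictScalars R) ∘ₗ (N.restrictScalars R).subtype = 0 from
      LinearMap.ext fun x => (Submodule.Quotient.mk_eq_zero _).mpr x.2]
  simp

theorem extMap_mem_of_rTensor_mkQ (N : Submodule (MvPolynomial (Fin n) R) (FreeMod R a n))
    {z : FreeMod R a n ⊗[R] A} (hz : (N.mkQ.restrictScalars R).rTensor A z = 0) :
    extMap A z ∈ locN A N := by
  obtain ⟨w, rfl⟩ := (rTensor_exact A (f := N.subtype.restrictScalars R) (g := N.mkQ.restrictScalars R)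
    (LinearMap.exact_subtype_mkQ N) N.mkQ_surjective z).mp hz
  clear hz
  induction w using TensorProduct.induction_on with
  | zero => simp
  | tmul v c =>
    rw [LinearMap.rTensor_tmul, extMap_tmul, ← algebraMap_smul (MvPolynomial (Fin n) A) c]
    exact Submodule.smul_mem _ _ (phi_mem A N v.2)
  | add x y hx hy => simp only [map_add]; exact add_mem hx hy

end Fibre

end Groth.Agent.RGFlatLib
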