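import Groth.Agent.RGFlatLib.Basic
import Groth.Agent.FlatValLib.Main
import Mathlib.RingTheory.TensorProduct.MvPolynomial

/-!
# The valuative criterion for quotients of free modules
-/

set_option autoImplicit false
set_option linter.style.haveILetI false
set_option maxHeartbeats 1000000
set_option backward.isDefEq.respectTransparency false

universe u

open MvPolynomial TensorProduct Groth.Agent.GenFree Groth.Agent.FlatLocus Groth.Agent.FlatValLib

noncomputable section

namespace Groth.Agent.RGFlatLib

variable {S : Type u} [CommRing S] {V : Type u} [CommRing V] [Algebra S V] {a n : ℕ}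

/-- Polynomials over an algebra as a base change. -/
def polyEquiv : MvPolynomial (Fin n) S ⊗[S] V ≃+* MvPolynomial (Fin n) V :=
  (Algebra.TensorProduct.comm S (MvPolynomial (Fin n) S) V).toRingEquiv.trans
    (MvPolynomial.algebraTensorAlgEquiv S V).toRingEquiv

theorem polyEquiv_tmul (b : MvPolynomial (Fin n) S) (c : V) :
    polyEquiv (b ⊗ₜ[S] c) = C c * MvPolynomial.map (algebraMap S V) b := by
  show MvPolynomial.algebraTensorAlgEquiv S V (c ⊗ₜ[S] b) = _
  rw [MvPolynomial.algebraTensorAlgEquiv_tmul, MvPolynomial.smul_eq_C_mul]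

theorem polyEquiv_one_tmul (c : V) :
    polyEquiv ((1 : MvPolynomial (Fin n) S) ⊗ₜ[S] c) = (C c : MvPolynomial (Fin n) V) := by
  rw [polyEquiv_tmul, map_one, mul_one]

theorem polyEquiv_tmul_one (b : MvPolynomial (Fin n) S) :
    polyEquiv (b ⊗ₜ[S] (1 : V)) = MvPolynomial.map (algebraMap S V) b := by
  rw [polyEquiv_tmul, map_one, one_mul]

variable (V) in
/-- The coefficient extension on the base change of the free module. -/
def extV (ξ : MV S (MvPolynomial (Fin n) S) V (FreeMod S a n)) : FreeMod V a n := extMap V ξ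

theorem extV_add (x y : MV S (MvPolynomial (Fin n) S) V (FreeMod S a n)) :
    extV V (x + y) = extV V x + extV V y := map_add (extMap V) x y

theorem extV_zero : extV V (0 : MV S (MvPolynomial (Fin n) S) V (FreeMod S a n)) = 0 := map_zero (extMap V)

theorem extV_smul (t : MvPolynomial (Fin n) S ⊗[S] V) (x : MV S (MvPolynomial (Fin n) S) V (FreeMod S a n)) :
    extV V (t • x) = polyEquiv t • extV V x := by
  induction t using TensorProduct.induction_on with
  | zero => exact (congrArg (extV V) (zero_smul (MvPolynomial (Fin n) S ⊗[S] V) x)).trans (by rw [extV_zero, map_zero, zero_smul])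
  | add t t' ht ht' => rw [add_smul, extV_add, ht, ht', map_add, add_smul]
  | tmul b c =>
    induction x using MV.induction with
    | zero => simp [extV_zero]
    | add x y hx hy => rw [smul_add, extV_add, extV_add, hx, hy, smul_add]
    | mk v w =>
      rw [smul_mk, polyEquiv_tmul]
      show extMap V ((b • v) ⊗ₜ (c * w)) = _ • extMap V (v ⊗ₜ w)
      rw [extMap_tmul, extMap_tmul, phi_smul, mul_smul, smul_comm w,
        ← algebraMap_smul (MvPolynomial (Fin n) V) c, smul_smul]
      rfl

theorem map_mkQ_eq_zero_iff (N : Submodule (MvPolynomial (Fin n) S) (FreeMod S a n))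
    (x : MV S (MvPolynomial (Fin n) S) V (FreeMod S a n)) :
    MV.map N.mkQ x = 0 ↔ extV V x ∈ locN V N :=
  ⟨fun h => extMap_mem_of_rTensor_mkQ V N h, fun h => rTensor_mkQ_eq_zero V N h⟩

theorem map_mkQ_surjective (N : Submodule (MvPolynomial (Fin n) S) (FreeMod S a n)) :
    Function.Surjective (MV.map (A := S) (V := V) N.mkQ) :=
  LinearMap.rTensor_surjective V (g := N.mkQ.restrictScalars S) N.mkQ_surjective

omit [Algebra S V] in
/-- A module over polynomials which is flat over all discrete valuation rings is flat. -/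
theorem mem_flatSet_of_dvr [IsNoetherianRing S] [IsReduced S]
    (N : Submodule (MvPolynomial (Fin n) S) (FreeMod S a n)) (q : PrimeSpectrum (MvPolynomial (Fin n) S))
    (h : ∀ (V : Type u) [CommRing V] [IsDomain V] [IsDiscreteValuationRing V] [Algebra S V]
      (Q : PrimeSpectrum (MvPolynomial (Fin n) V)),
      PrimeSpectrum.comap (MvPolynomial.map (algebraMap S V)) Q = q →
      (IsLocalRing.maximalIdeal V).map (C : V →+* MvPolynomial (Fin n) V) ≤ Q.asIdeal →
        Q ∈ flatSet (locN V N)) :
    q ∈ flatSet N := by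
  refine flatAt_of_valFlatAt (A := S) (FreeMod S a n ⧸ N) q.asIdeal ?_
  intro V _ _ _ _ Q _ hQ hQm π hπ y hy
  let e : MvPolynomial (Fin n) S ⊗[S] V ≃+* MvPolynomial (Fin n) V := polyEquiv
  let Q' : PrimeSpectrum (MvPolynomial (Fin n) V) := ⟨Q.comap e.symm.toRingHom, inferInstance⟩
  have hQ' : ∀ t, e t ∈ Q'.asIdeal ↔ t ∈ Q := fun t => by
    show e.symm (e t) ∈ Q ↔ _
    rw [RingEquiv.symm_apply_apply]
  have hflat : Q' ∈ flatSet (locN V N) := by
    refine h V Q' (PrimeSpectrum.ext ?_) (Ideal.map_le_iff_le_comap.mpr fun c hc => ?_)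
    · rw [PrimeSpectrum.comap_asIdeal, ← hQ]
      ext b
      rw [Ideal.mem_comap, ← polyEquiv_tmul_one]
      exact hQ' _
    · show C c ∈ Q'.asIdeal
      rw [← polyEquiv_one_tmul (S := S) c]
      exact (hQ' _).mpr (hQm.ge hc)
  obtain ⟨x, rfl⟩ := map_mkQ_surjective (V := V) N y
  rw [← map_smul, map_mkQ_eq_zero_iff, extV_smul, polyEquiv_one_tmul] at hy
  obtain ⟨t, ht, htx⟩ := mem_sat_of_smul_mem hflat hπ.ne_zero hy
  obtain ⟨t, rfl⟩ := e.surjective t
  refine ⟨t, fun hh => ht ((hQ' t).mpr hh), ?_⟩
  rw [← map_smul, map_mkQ_eq_zero_iff, extV_smul]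
  exact htx

end Groth.Agent.RGFlatLib
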