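import Groth.Agent.RGFlatLib.SatFG

/-!
# Local finite presentation over a valuation ring
-/

set_option autoImplicit false
set_option linter.style.haveILetI false

universe u

open MvPolynomial Groth.Agent.GenFree Groth.Agent.FlatLocus

noncomputable section

namespace Groth.Agent.RGFlatLib

/-- Nakayama's lemma up to saturation. -/
theorem le_sat_of_le_sup_smul {P F : Type u} [CommRing P] [AddCommGroup F] [Module P F] (Q : Ideal P)
    [Q.IsPrime] {I : Ideal P} (hI : I ≤ Q) {L U : Submodule P F} (hL : L.FG)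
    (h : L ≤ Sat Q.primeCompl (U ⊔ I • L)) : L ≤ Sat Q.primeCompl U := by
  let B := Localization.AtPrime Q
  let M := LocalizedModule Q.primeCompl (F ⧸ U)
  let g := LocalizedModule.mkLinearMap Q.primeCompl (F ⧸ U)
  let φ : F →ₗ[P] M := g ∘ₗ U.mkQ
  let L' : Submodule B M := Submodule.span B (φ '' (L : Set F))
  have hfg : L'.FG := by
    classical
    obtain ⟨G, hG⟩ := hL
    refine ⟨G.image φ, le_antisymm (Submodule.span_mono ?_) (Submodule.span_le.mpr ?_)⟩
    · rw [Finset.coe_image, ← hG]
      exact Set.image_mono Submodule.subset_span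
    · rintro _ ⟨x, hx, rfl⟩
      rw [← hG] at hx
      rw [Finset.coe_image]
      exact Submodule.span_le_restrictScalars P B _ (Submodule.apply_mem_span_image_of_mem_span φ hx)
  have hU : ∀ x ∈ U, φ x = 0 := fun x hx => by
    show g (U.mkQ x) = 0
    rw [show U.mkQ x = 0 from (Submodule.Quotient.mk_eq_zero _).mpr hx, map_zero]
  have hIL : ∀ x ∈ I • L, φ x ∈ IsLocalRing.maximalIdeal B • L' := fun x hx => by
    induction hx using Submodule.smul_induction_on' with
    | smul c hc y hy =>
      rw [map_smul, ← algebraMap_smul B c (φ y)]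
      exact Submodule.smul_mem_smul ((IsLocalization.AtPrime.to_map_mem_maximal_iff B Q c).mpr (hI hc))
        (Submodule.subset_span ⟨y, hy, rfl⟩)
    | add y _ z _ hy hz => rw [map_add]; exact add_mem hy hz
  have hbot : L' = ⊥ := by
    refine Submodule.eq_bot_of_le_smul_of_le_jacobson_bot (IsLocalRing.maximalIdeal B) L' hfg ?_
      (IsLocalRing.maximalIdeal_le_jacobson _)
    refine Submodule.span_le.mpr ?_
    rintro _ ⟨x, hx, rfl⟩
    obtain ⟨s, hs, hsx⟩ := h hx
    obtain ⟨u, hu, v, hv, huv⟩ := Submodule.mem_sup.mp hsx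
    have hsB : IsUnit (algebraMap P B s) := IsLocalization.map_units B (⟨s, hs⟩ : Q.primeCompl)
    have : algebraMap P B s • φ x ∈ IsLocalRing.maximalIdeal B • L' := by
      rw [algebraMap_smul, ← map_smul, ← huv, map_add, hU u hu, zero_add]
      exact hIL v hv
    exact (Submodule.smul_mem_iff_of_isUnit _ hsB).mp this
  intro x hx
  have h0 : φ x = 0 := (Submodule.mem_bot B).mp (hbot ▸ Submodule.subset_span ⟨x, hx, rfl⟩)
  obtain ⟨s, hs⟩ := (IsLocalizedModule.eq_zero_iff Q.primeCompl g).mp h0
  exact ⟨s, s.2, (Submodule.Quotient.mk_eq_zero U).mp hs⟩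

variable {W : Type u} [CommRing W] [IsDomain W] [ValuationRing W] {a n : ℕ}

/-- Over a valuation ring a quotient flat at a prime over the closed point is presented there by any
relations generating the relations of the closed fibre. -/
theorem le_sat_of_residue {U U' : Submodule (MvPolynomial (Fin n) W) (FreeMod W a n)} (hUU' : U' ≤ U)
    (q : PrimeSpectrum (MvPolynomial (Fin n) W))
    (hq : (IsLocalRing.maximalIdeal W).map (C : W →+* MvPolynomial (Fin n) W) ≤ q.asIdeal)
    (hU : q ∈ flatSet U) (hres : U ≤ Sat q.asIdeal.primeCompl (U' ⊔ cf (IsLocalRing.maximalIdeal W))) :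
    U ≤ Sat q.asIdeal.primeCompl U' := by
  have hUT : U ≤ satW U := le_sat _ _
  have hT : satW U ≤ Sat q.asIdeal.primeCompl U := fun x hx => by
    obtain ⟨w, hw, hwx⟩ := mem_satW.mp hx
    exact mem_sat_of_smul_mem hU hw hwx
  refine hUT.trans (le_sat_of_le_sup_smul q.asIdeal hq (satW_fg U) fun x hx => ?_)
  obtain ⟨s, hs, hsx⟩ := (hT.trans (sat_le hres)) hx
  refine ⟨s, hs, ?_⟩
  obtain ⟨u, hu, y, hy, huy⟩ := Submodule.mem_sup.mp hsx
  refine Submodule.mem_sup.mpr ⟨u, hu, y, ?_, huy⟩
  rcases eq_or_ne y 0 with rfl | h0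
  · exact zero_mem _
  have hyT : y ∈ satW U := by
    rw [← eq_sub_of_add_eq' huy |>.symm]
    exact sub_mem ((satW U).smul_mem _ hx) (hUT (hUU' hu))
  obtain ⟨c, hc, hc0, y', rfl, -⟩ := exists_smul_eq hy h0
  exact Submodule.smul_mem_smul (Ideal.mem_map_of_mem _ hc) (mem_satW_of_smul hc0 hyT)

end Groth.Agent.RGFlatLib
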