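import Groth.Agent.RGFlatLib.Ultra
import Groth.Agent.RGFlatLib.ValFlat
import Groth.Agent.UnivInjFib.Main
import Mathlib.RingTheory.Valuation.LocalSubring

/-!
# A finitely generated flat module over polynomials is finitely presented at the points of flatness
-/

set_option autoImplicit false
set_option linter.style.haveILetI false
set_option maxHeartbeats 1000000
set_option backward.isDefEq.respectTransparency false

universe u

open MvPolynomial TensorProduct Groth.Agent.GenFree Groth.Agent.FlatLocus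

noncomputable section

namespace Groth.Agent.RGFlatLib

variable {A : Type u} [CommRing A] {a n : ℕ}

/-- Finitely many relations give all the relations of a fibre. -/
theorem exists_residue_generators (K : Submodule (MvPolynomial (Fin n) A) (FreeMod A a n)) (p : Ideal A)
    [p.IsPrime] : ∃ K', K'.FG ∧ K' ≤ K ∧ locN p.ResidueField K' = locN p.ResidueField K := by
  classical
  obtain ⟨s, hs, hspan⟩ := (Submodule.fg_span_iff_fg_span_finset_subset
    (R := MvPolynomial (Fin n) p.ResidueField) (phi p.ResidueField '' (K : Set (FreeMod A a n)))).mp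
    (IsNoetherian.noetherian _)
  choose! f hf hfe using fun x (hx : x ∈ s) => hs hx
  refine ⟨Submodule.span _ (s.image f), ⟨_, rfl⟩, Submodule.span_le.mpr ?_, le_antisymm ?_ ?_⟩
  · rw [Finset.coe_image]
    rintro _ ⟨x, hx, rfl⟩
    exact hf x hx
  · refine locN_mono _ (Submodule.span_le.mpr ?_)
    rw [Finset.coe_image]
    rintro _ ⟨x, hx, rfl⟩
    exact hf x hx
  · rw [show locN p.ResidueField K = _ from hspan, Submodule.span_le]
    intro x hx
    rw [SetLike.mem_coe, ← hfe x hx]
    exact phi_mem _ _ (Submodule.subset_span (Finset.mem_image_of_mem f hx))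

variable {K K' : Submodule (MvPolynomial (Fin n) A) (FreeMod A a n)} (hle : K' ≤ K)
  (q : PrimeSpectrum (MvPolynomial (Fin n) A))

include hle in
/-- Over a valuation ring centred at the point, the relations of the fibre generate. -/
theorem le_sat_valuation {p : Ideal A} [p.IsPrime] (hp : q.asIdeal.comap C = p)
    (hgen : locN p.ResidueField K' = locN p.ResidueField K) (hK : q ∈ flatSet K)
    (W : Type u) [CommRing W] [IsDomain W] [ValuationRing W] [Algebra A W]
    (Q : PrimeSpectrum (MvPolynomial (Fin n) W)) (hQ : PrimeSpectrum.comap (MvPolynomial.map (algebraMap A W)) Q = q)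
    (hQm : (IsLocalRing.maximalIdeal W).map (C : W →+* MvPolynomial (Fin n) W) ≤ Q.asIdeal) :
    locN W K ≤ Sat Q.asIdeal.primeCompl (locN W K') ∧ Q ∈ flatSet (locN W K') := by
  have hmem : ∀ c : A, c ∈ p ↔ algebraMap A W c ∈ IsLocalRing.maximalIdeal W := fun c => by
    rw [← hp, ← hQ, Ideal.mem_comap, PrimeSpectrum.comap_asIdeal, Ideal.mem_comap, map_C]
    refine ⟨fun h => ?_, fun h => hQm (Ideal.mem_map_of_mem _ h)⟩
    by_contra hu
    exact Q.2.ne_top (Ideal.eq_top_of_isUnit_mem _ h
      ((IsLocalRing.notMem_maximalIdeal.mp hu).map (C : W →+* MvPolynomial (Fin n) W)))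
  let κ := p.ResidueField
  let κW := IsLocalRing.ResidueField W
  let ψ : κ →+* κW := Ideal.ResidueField.lift p (algebraMap A κW)
    (fun c hc => by
      rw [RingHom.mem_ker, IsScalarTower.algebraMap_apply A W κW]
      exact Ideal.Quotient.eq_zero_iff_mem.mpr ((hmem c).mp hc))
    (fun c hc => by
      show IsUnit (algebraMap A κW c)
      rw [IsScalarTower.algebraMap_apply A W κW]
      exact (IsLocalRing.notMem_maximalIdeal.mp fun h => hc ((hmem c).mpr h)).map _)
  letI : Algebra κ κW := ψ.toAlgebra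
  haveI : IsScalarTower A κ κW := .of_algebraMap_eq fun c => (Ideal.ResidueField.lift_algebraMap _ _ _ _ c).symm
  have hU : Q ∈ flatSet (locN W K) := mem_flatSet_of_comap A K Q (by rw [hQ]; exact hK)
  have hWle : locN W K' ≤ locN W K := locN_mono W hle
  have key : locN W K ≤ Sat Q.asIdeal.primeCompl (locN W K') := by
    refine le_sat_of_residue hWle Q hQm hU fun x hx => le_sat _ _ ?_
    have h1 : phi κW x ∈ locN κW K' := by
      rw [← locN_locN (R := κW) κ K', hgen, locN_locN, ← locN_locN (R := κW) W K]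
      exact phi_mem κW _ hx
    rw [← locN_locN (R := κW) W K'] at h1
    have h2 := mem_sup_cf_of_phi (A := κW) IsLocalRing.residue_surjective _ h1
    rwa [show RingHom.ker (algebraMap W κW) = IsLocalRing.maximalIdeal W from IsLocalRing.ker_residue] at h2
  exact ⟨key, mem_flatSet_congr (hWle.trans (le_sat _ _)) key hU⟩

/-- Flatness over a reduced quotient holds over a quotient by a finitely generated nilpotent ideal. -/
theorem exists_flat_nilpotent_aux {S₀ : Type u} [CommRing S₀] [IsNoetherianRing S₀] [Algebra S₀ A]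
    (N₀ : Submodule (MvPolynomial (Fin n) S₀) (FreeMod S₀ a n))
    (qr : PrimeSpectrum (MvPolynomial (Fin n) (A ⧸ nilradical A)))
    (h : qr ∈ flatSet (locN (A ⧸ nilradical A) (locN A N₀))) :
    ∃ J : Ideal A, IsNilpotent J ∧ ∃ q' : PrimeSpectrum (MvPolynomial (Fin n) (A ⧸ J)),
      PrimeSpectrum.comap (MvPolynomial.map (algebraMap A (A ⧸ J))) q' =
        PrimeSpectrum.comap (MvPolynomial.map (algebraMap A (A ⧸ nilradical A))) qr ∧
      q' ∈ flatSet (locN (A ⧸ J) (locN A N₀)) := by
  classical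
  rw [locN_locN] at h
  obtain ⟨S', hS', hq'⟩ := exists_subalgebra N₀ qr (mem_flatSet_iff.mp h _)
  haveI : Algebra.FiniteType S₀ S' := (Subalgebra.fg_iff_finiteType _).1 hS'
  obtain ⟨m, π, hπ⟩ := Algebra.FiniteType.iff_quotient_mvPolynomial''.mp ‹Algebra.FiniteType S₀ S'›
  choose lift hlift using fun i => Ideal.Quotient.mk_surjective ((π (X i) : S') : A ⧸ nilradical A)
  let Ψ : MvPolynomial (Fin m) S₀ →ₐ[S₀] A := aeval lift
  have hΨ : ∀ r, Ideal.Quotient.mk (nilradical A) (Ψ r) = ((π r : S') : A ⧸ nilradical A) := fun r => by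
    refine DFunLike.congr_fun (?_ : (Ideal.Quotient.mk (nilradical A)).comp Ψ.toRingHom =
      (S'.val.toRingHom).comp π.toRingHom) r
    refine MvPolynomial.ringHom_ext (fun s => ?_) fun i => ?_
    · show Ideal.Quotient.mk (nilradical A) (aeval lift (C s)) = ((π (C s) : S') : A ⧸ nilradical A)
      rw [aeval_C, show (C s : MvPolynomial (Fin m) S₀) = algebraMap S₀ _ s from rfl, π.commutes]
      rfl
    · show Ideal.Quotient.mk (nilradical A) (aeval lift (X i)) = ((π (X i) : S') : A ⧸ nilradical A)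
      rw [aeval_X, hlift]
  obtain ⟨G, hG⟩ : (RingHom.ker π.toRingHom).FG := IsNoetherian.noetherian _
  let J : Ideal A := Ideal.span (G.image Ψ : Set A)
  have hJle : J ≤ nilradical A := by
    refine Ideal.span_le.mpr ?_
    rw [Finset.coe_image]
    rintro _ ⟨r, hr, rfl⟩
    have hr0 : π r = 0 := RingHom.mem_ker.mp (hG ▸ Ideal.subset_span hr : r ∈ RingHom.ker π.toRingHom)
    have := hΨ r
    rw [hr0, ZeroMemClass.coe_zero, Ideal.Quotient.eq_zero_iff_mem] at this
    exact this
  refine ⟨J, (Ideal.FG.isNilpotent_iff_le_nilradical ⟨_, rfl⟩).mpr hJle,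
    PrimeSpectrum.comap (MvPolynomial.map (Ideal.Quotient.factor hJle)) qr, ?_, ?_⟩
  · rw [← PrimeSpectrum.comap_comp_apply]
    congr 1
    exact MvPolynomial.ringHom_ext (fun c => by simp) fun i => by simp
  let σ : S' →+* A ⧸ J := RingHom.liftOfSurjective π.toRingHom hπ
    ⟨(Ideal.Quotient.mk J).comp Ψ.toRingHom, by
      rw [← hG, Ideal.span_le]
      exact fun r hr => Ideal.Quotient.eq_zero_iff_mem.mpr (Ideal.subset_span (Finset.mem_image_of_mem Ψ hr))⟩
  have hσ : ∀ r, σ (π r) = Ideal.Quotient.mk J (Ψ r) := fun r =>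
    RingHom.liftOfRightInverse_comp_apply _ _ _ _ r
  letI : Algebra S' (A ⧸ J) := σ.toAlgebra
  haveI : IsScalarTower S₀ S' (A ⧸ J) := .of_algebraMap_eq fun s => by
    show _ = σ (algebraMap S₀ S' s)
    rw [← π.commutes, hσ, Ψ.commutes]
    rfl
  rw [locN_locN, ← locN_locN (R := A ⧸ J) S' N₀]
  refine mem_flatSet_of_comap S' _ _ ?_
  convert hq' using 1
  rw [← PrimeSpectrum.comap_comp_apply]
  congr 1
  refine MvPolynomial.ringHom_ext (fun c => ?_) fun i => by simp
  obtain ⟨r, rfl⟩ := hπ c
  simp only [RingHom.comp_apply, map_C]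
  show C (Ideal.Quotient.factor hJle (σ (π r))) = C ((π r : S') : A ⧸ nilradical A)
  rw [hσ, Ideal.Quotient.factor_mk, hΨ]

/-- A multiplier over an extension field gives one over the field. -/
theorem exists_smul_mem_of_field {k L : Type u} [Field k] [Field L] [Algebra k L]
    (N : Submodule (MvPolynomial (Fin n) k) (FreeMod k a n)) (x : FreeMod k a n) (s : MvPolynomial (Fin n) L)
    (pt : Fin n → L) (h : s • phi L x ∈ locN L N) (hs : eval pt s ≠ 0) :
    ∃ c : MvPolynomial (Fin n) k, c • x ∈ N ∧ aeval pt c ≠ 0 := by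
  classical
  let b := Module.Basis.ofVectorSpace k L
  obtain ⟨ζ, rfl⟩ := (polyEquiv (S := k) (V := L) (n := n)).surjective s
  obtain ⟨f, rfl⟩ := (TensorProduct.equivFinsuppOfBasisRight (M := MvPolynomial (Fin n) k) b).symm.surjective ζ
  rw [TensorProduct.equivFinsuppOfBasisRight_symm_apply, Finsupp.sum, map_sum] at h hs
  obtain ⟨j, hj, hj0⟩ : ∃ j ∈ f.support, aeval pt (f j) ≠ 0 := by
    by_contra hcon
    push Not at hcon
    refine hs ?_
    rw [map_sum]
    refine Finset.sum_eq_zero fun j hj => ?_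
    rw [polyEquiv_tmul, map_mul, eval_map, ← aeval_def, hcon j hj, mul_zero]
  refine ⟨f j, ?_, hj0⟩
  let z : FreeMod k a n ⊗[k] L := ∑ j ∈ f.support, (f j • x) ⊗ₜ b j
  have hz : extMap L z ∈ locN L N := by
    convert h using 1
    simp only [z, map_sum, Finset.sum_smul, extMap_tmul, phi_smul, polyEquiv_tmul]
    refine Finset.sum_congr rfl fun j _ => ?_
    rw [← algebraMap_smul (MvPolynomial (Fin n) L) (b j), smul_smul]
    rfl
  have h0 := rTensor_mkQ_eq_zero L N hz
  let g : _ →₀ (FreeMod k a n ⧸ N) := f.mapRange (fun c => N.mkQ (c • x)) (by simp)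
  have hg : g = 0 := by
    refine TensorProduct.sum_tmul_basis_right_eq_zero b g ?_
    rw [← h0]
    simp only [g, z, map_sum, LinearMap.rTensor_tmul, LinearMap.coe_restrictScalars]
    rw [Finsupp.sum_mapRange_index (by simp)]
    rfl
  exact (Submodule.Quotient.mk_eq_zero N).mp (DFunLike.congr_fun hg j)

/-- A multiplier over a field to which the local ring maps. -/
theorem exists_smul_phi_of_ringHom
    (hval : ∀ (W : Type u) [CommRing W] [IsDomain W] [ValuationRing W] [Algebra A W]
      (Q : PrimeSpectrum (MvPolynomial (Fin n) W)),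
      PrimeSpectrum.comap (MvPolynomial.map (algebraMap A W)) Q = q →
      (IsLocalRing.maximalIdeal W).map (C : W →+* MvPolynomial (Fin n) W) ≤ Q.asIdeal →
        locN W K ≤ Sat Q.asIdeal.primeCompl (locN W K'))
    {L : Type u} [Field L] [Algebra A L] (ρ : MvPolynomial (Fin n) A →+* L)
    (hC : ∀ c, ρ (C c) = algebraMap A L c) (hρ : ∀ s ∈ q.asIdeal.primeCompl, ρ s ≠ 0)
    {v : FreeMod A a n} (hv : v ∈ K) :
    ∃ s' : MvPolynomial (Fin n) L, s' • phi L v ∈ locN L K' ∧ eval (fun i => ρ (X i)) s' ≠ 0 := by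
  let f : Localization.AtPrime q.asIdeal →+* L :=
    IsLocalization.lift (g := ρ) fun s => isUnit_iff_ne_zero.mpr (hρ s.1 s.2)
  obtain ⟨B, hB, hloc⟩ := IsLocalRing.exists_factor_valuationRing f
  haveI := hloc
  let θ : MvPolynomial (Fin n) A →+* B :=
    (f.codRestrict B.toSubring hB).comp (algebraMap (MvPolynomial (Fin n) A) (Localization.AtPrime q.asIdeal))
  have hθ : ∀ s, (θ s : L) = ρ s := fun s => IsLocalization.lift_eq _ s
  have hθm : ∀ s, θ s ∈ IsLocalRing.maximalIdeal B ↔ s ∈ q.asIdeal := fun s => by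
    rw [← IsLocalization.AtPrime.to_map_mem_maximal_iff (Localization.AtPrime q.asIdeal) q.asIdeal s]
    simp only [IsLocalRing.mem_maximalIdeal, mem_nonunits_iff]
    exact not_congr ⟨fun hu => IsUnit.of_map (f.codRestrict B.toSubring hB) _ hu,
      fun hu => hu.map (f.codRestrict B.toSubring hB)⟩
  letI : Algebra A B := (θ.comp C).toAlgebra
  haveI : IsScalarTower A B L := .of_algebraMap_eq fun c => by
    show algebraMap A L c = ((θ (C c) : B) : L)
    rw [hθ, hC]
  let ev : MvPolynomial (Fin n) B →+* B := eval fun i => θ (X i)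
  have hev : ev.comp (MvPolynomial.map (algebraMap A B)) = θ :=
    MvPolynomial.ringHom_ext (fun c => by simp [ev, RingHom.algebraMap_toAlgebra]) fun i => by simp [ev]
  let Q : PrimeSpectrum (MvPolynomial (Fin n) B) := ⟨(IsLocalRing.maximalIdeal B).comap ev, inferInstance⟩
  have hQ : PrimeSpectrum.comap (MvPolynomial.map (algebraMap A B)) Q = q := by
    refine PrimeSpectrum.ext (Ideal.ext fun s => ?_)
    show ev (MvPolynomial.map (algebraMap A B) s) ∈ IsLocalRing.maximalIdeal B ↔ _
    rw [show ev (MvPolynomial.map (algebraMap A B) s) = θ s from DFunLike.congr_fun hev s]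
    exact hθm s
  have hQm : (IsLocalRing.maximalIdeal B).map (C : B →+* MvPolynomial (Fin n) B) ≤ Q.asIdeal := by
    refine Ideal.map_le_iff_le_comap.mpr fun c hc => ?_
    show ev (C c) ∈ IsLocalRing.maximalIdeal B
    rw [show ev (C c) = c from eval_C c]
    exact hc
  obtain ⟨s', hs', hs'v⟩ := hval B Q hQ hQm (phi_mem B K hv)
  refine ⟨MvPolynomial.map (algebraMap B L) s', ?_, ?_⟩
  · rw [← locN_locN (R := L) B K', ← phi_phi (A := B) (R := L) v, ← phi_smul]
    exact phi_mem L _ hs'v
  · rw [eval_map, show (fun i => ρ (X i)) = fun i => algebraMap B L (θ (X i)) from funext fun i => (hθ _).symm]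
    rw [show eval₂ (algebraMap B L) (fun i => algebraMap B L (θ (X i))) s' = algebraMap B L (ev s') from
      (MvPolynomial.eval₂_comp _ _ s').symm]
    exact fun h0 => hs' (by
      show ev s' ∈ IsLocalRing.maximalIdeal B
      rw [show ev s' = 0 from Subtype.ext h0]
      exact zero_mem _)

/-- A multiplier over the field of a fibre. -/
theorem exists_smul_mem_of_ringHom {k L : Type u} [Field k] [Field L] [Algebra k L]
    (N : Submodule (MvPolynomial (Fin n) k) (FreeMod k a n)) (x : FreeMod k a n) (s : MvPolynomial (Fin n) L)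
    (ρ₀ : MvPolynomial (Fin n) k →+* L) (hC : ∀ c, ρ₀ (C c) = algebraMap k L c)
    (h : s • phi L x ∈ locN L N) (hs : eval (fun i => ρ₀ (X i)) s ≠ 0) :
    ∃ c : MvPolynomial (Fin n) k, c • x ∈ N ∧ ρ₀ c ≠ 0 := by
  obtain ⟨c, hc, hc0⟩ := exists_smul_mem_of_field N x s _ h hs
  refine ⟨c, hc, fun h0 => hc0 ?_⟩
  rw [← h0]
  exact DFunLike.congr_fun (MvPolynomial.ringHom_ext (f := (aeval fun i => ρ₀ (X i)).toRingHom) (g := ρ₀)
    (fun r => by simp [hC]) fun i => by simp) c

/-- A multiplier in the polynomial ring of a fibre. -/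
theorem exists_smul_mem_of_prime
    (hval : ∀ (W : Type u) [CommRing W] [IsDomain W] [ValuationRing W] [Algebra A W]
      (Q : PrimeSpectrum (MvPolynomial (Fin n) W)),
      PrimeSpectrum.comap (MvPolynomial.map (algebraMap A W)) Q = q →
      (IsLocalRing.maximalIdeal W).map (C : W →+* MvPolynomial (Fin n) W) ≤ Q.asIdeal →
        locN W K ≤ Sat Q.asIdeal.primeCompl (locN W K'))
    {k : Type u} [Field k] [Algebra A k] {L : Type u} [Field L] (ρ₀ : MvPolynomial (Fin n) k →+* L)
    (hρ : ∀ s ∈ q.asIdeal.primeCompl, ρ₀ (MvPolynomial.map (algebraMap A k) s) ≠ 0)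
    {v : FreeMod A a n} (hv : v ∈ K) :
    ∃ c : MvPolynomial (Fin n) k, c • phi k v ∈ locN k K' ∧ ρ₀ c ≠ 0 := by
  letI : Algebra k L := (ρ₀.comp C).toAlgebra
  letI : Algebra A L := ((algebraMap k L).comp (algebraMap A k)).toAlgebra
  haveI : IsScalarTower A k L := .of_algebraMap_eq fun _ => rfl
  obtain ⟨s', hs'v, hne⟩ := exists_smul_phi_of_ringHom q hval (ρ₀.comp (MvPolynomial.map (algebraMap A k)))
    (fun c => by rw [RingHom.comp_apply, map_C]; rfl) hρ hv
  rw [← locN_locN (R := L) k K', ← phi_phi (A := k) (R := L) v] at hs'v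
  rw [show (fun i => (ρ₀.comp (MvPolynomial.map (algebraMap A k))) (X i)) = fun i => ρ₀ (X i) from
    funext fun i => by rw [RingHom.comp_apply, map_X]] at hne
  exact exists_smul_mem_of_ringHom _ _ s' ρ₀ (fun _ => rfl) hs'v hne

/-- A multiplier outside a prime avoiding the image of the complement. -/
theorem exists_smul_mem_notMem
    (hval : ∀ (W : Type u) [CommRing W] [IsDomain W] [ValuationRing W] [Algebra A W]
      (Q : PrimeSpectrum (MvPolynomial (Fin n) W)),
      PrimeSpectrum.comap (MvPolynomial.map (algebraMap A W)) Q = q →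
      (IsLocalRing.maximalIdeal W).map (C : W →+* MvPolynomial (Fin n) W) ≤ Q.asIdeal →
        locN W K ≤ Sat Q.asIdeal.primeCompl (locN W K'))
    {k : Type u} [Field k] [Algebra A k] (P' : Ideal (MvPolynomial (Fin n) k)) [P'.IsPrime]
    (hP : ∀ s ∈ q.asIdeal.primeCompl, MvPolynomial.map (algebraMap A k) s ∉ P')
    {v : FreeMod A a n} (hv : v ∈ K) :
    ∃ c : MvPolynomial (Fin n) k, c • phi k v ∈ locN k K' ∧ c ∉ P' := by
  obtain ⟨c, hc, hc0⟩ := exists_smul_mem_of_prime q hval (L := FractionRing (MvPolynomial (Fin n) k ⧸ P'))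
    ((algebraMap _ _).comp (Ideal.Quotient.mk P')) (fun s hs h0 => hP s hs (by
      rw [RingHom.comp_apply, IsFractionRing.to_map_eq_zero_iff, Ideal.Quotient.eq_zero_iff_mem] at h0
      exact h0)) hv
  exact ⟨c, hc, fun h => hc0 (by rw [RingHom.comp_apply, Ideal.Quotient.eq_zero_iff_mem.mpr h, map_zero])⟩

/-- The relations agree on every fibre. -/
theorem exists_smul_phi_mem
    (hval : ∀ (W : Type u) [CommRing W] [IsDomain W] [ValuationRing W] [Algebra A W]
      (Q : PrimeSpectrum (MvPolynomial (Fin n) W)),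
      PrimeSpectrum.comap (MvPolynomial.map (algebraMap A W)) Q = q →
      (IsLocalRing.maximalIdeal W).map (C : W →+* MvPolynomial (Fin n) W) ≤ Q.asIdeal →
        locN W K ≤ Sat Q.asIdeal.primeCompl (locN W K'))
    (p : Ideal A) [p.IsPrime] {v : FreeMod A a n} (hv : v ∈ K) :
    ∃ s ∉ q.asIdeal, MvPolynomial.map (algebraMap A p.ResidueField) s • phi p.ResidueField v ∈
      locN p.ResidueField K' := by
  by_contra hcon
  push Not at hcon
  obtain ⟨P', hP', hJP, hPT⟩ := Ideal.exists_le_prime_disjoint ((locN p.ResidueField K').colon {phi p.ResidueField v})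
    (q.asIdeal.primeCompl.map (MvPolynomial.map (σ := Fin n) (algebraMap A p.ResidueField)))
    (Set.disjoint_right.mpr (by
      rintro _ ⟨s, hs, rfl⟩ hmem
      exact hcon s hs (Submodule.mem_colon_singleton.mp hmem)))
  haveI := hP'
  obtain ⟨c, hc, hc0⟩ := exists_smul_mem_notMem q hval P'
    (fun s hs => Set.disjoint_right.mp hPT ⟨s, hs, rfl⟩) hv
  exact hc0 (hJP (Submodule.mem_colon_singleton.mpr hc))

include hle in
/-- Equal relations on all fibres and flatness of both quotients give equal relations. -/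
theorem le_sat_of_fibres (hfg : K'.FG) (hK' : q ∈ flatSet K') (hK : q ∈ flatSet K)
    (hfib : ∀ (p : Ideal A) [p.IsPrime], ∀ v ∈ K, ∃ s ∉ q.asIdeal,
      MvPolynomial.map (algebraMap A p.ResidueField) s • phi p.ResidueField v ∈ locN p.ResidueField K') :
    K ≤ Sat q.asIdeal.primeCompl K' := by
  let T := q.asIdeal.primeCompl
  haveI : Module.FinitePresentation (MvPolynomial (Fin n) A) (FreeMod A a n ⧸ K') :=
    Module.finitePresentation_of_free_of_surjective K'.mkQ K'.mkQ_surjective (by rw [Submodule.ker_mkQ]; exact hfg)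
  let g := LocalizedModule.mkLinearMap T (FreeMod A a n ⧸ K')
  let gM := LocalizedModule.mkLinearMap T (FreeMod A a n ⧸ K)
  let fac : (FreeMod A a n ⧸ K') →ₗ[MvPolynomial (Fin n) A] (FreeMod A a n ⧸ K) := Submodule.factor hle
  let uP := IsLocalizedModule.map T g gM fac
  have hu : ∀ y, uP (g y) = gM (fac y) := fun y => IsLocalizedModule.map_apply T g gM fac y
  haveI : Module.Flat A (LocalizedModule T (FreeMod A a n ⧸ K')) := hK'
  haveI : Module.Flat A (LocalizedModule T (FreeMod A a n ⧸ K)) := hK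
  have hinj : Function.Injective ((uP.restrictScalars A).rTensor A) := by
    refine UnivInjFib.univInj_of_fibres T g (uP.restrictScalars A) (fun p _ => ?_) A
    rw [LinearMap.lTensor_inj_iff_rTensor_inj]
    rw [injective_iff_map_eq_zero]
    intro z hz
    let κ := p.ResidueField
    let gκ := AlgebraTensorModule.rTensor A κ g
    obtain ⟨⟨y, s⟩, hys⟩ := IsLocalizedModule.surj T gκ z
    obtain ⟨ξ, rfl⟩ := LinearMap.rTensor_surjective κ (g := K'.mkQ.restrictScalars A) K'.mkQ_surjective y
    have hnat : ∀ w : FreeMod A a n ⊗[A] κ,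
        AlgebraTensorModule.rTensor A κ uP (gκ ((K'.mkQ.restrictScalars A).rTensor κ w)) =
          AlgebraTensorModule.rTensor A κ gM (AlgebraTensorModule.rTensor A κ K.mkQ w) := fun w => by
      induction w using TensorProduct.induction_on with
      | zero => simp
      | tmul x c =>
        show uP (g (K'.mkQ x)) ⊗ₜ[A] c = gM (K.mkQ x) ⊗ₜ[A] c
        rw [hu]
        rfl
      | add x y hx hy => simp only [map_add, hx, hy]
    have h0 : AlgebraTensorModule.rTensor A κ gM (AlgebraTensorModule.rTensor A κ K.mkQ ξ) = 0 := by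
      rw [← hnat, ← hys, Submonoid.smul_def, map_smul,
        show AlgebraTensorModule.rTensor A κ uP z = 0 from hz, smul_zero]
    obtain ⟨t, ht⟩ := (IsLocalizedModule.eq_zero_iff T (AlgebraTensorModule.rTensor A κ gM)).mp h0
    rw [Submonoid.smul_def, ← map_smul] at ht
    obtain ⟨w, hw⟩ := (rTensor_exact κ (f := K.subtype.restrictScalars A) (g := K.mkQ.restrictScalars A)
      (LinearMap.exact_subtype_mkQ K) K.mkQ_surjective ((t : MvPolynomial (Fin n) A) • ξ)).mp ht
    have hker : ∀ w : K ⊗[A] κ, ∃ t' ∈ T, AlgebraTensorModule.rTensor A κ K'.mkQ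
        (t' • (K.subtype.restrictScalars A).rTensor κ w) = 0 := fun w => by
      induction w using TensorProduct.induction_on with
      | zero => exact ⟨1, T.one_mem, by simp⟩
      | tmul v c =>
        obtain ⟨s', hs', hs'v⟩ := hfib p v.1 v.2
        refine ⟨s', hs', rTensor_mkQ_eq_zero κ K' ?_⟩
        rw [LinearMap.rTensor_tmul, extMap_smul, extMap_tmul, smul_comm]
        exact Submodule.smul_of_tower_mem _ c hs'v
      | add w₁ w₂ h₁ h₂ =>
        obtain ⟨t₁, ht₁, h₁⟩ := h₁
        obtain ⟨t₂, ht₂, h₂⟩ := h₂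
        refine ⟨t₁ * t₂, T.mul_mem ht₁ ht₂, ?_⟩
        rw [map_smul] at h₁ h₂
        rw [map_add, map_smul, map_add, smul_add]
        conv_lhs => arg 1; rw [mul_comm, mul_smul, h₁, smul_zero]
        rw [zero_add, mul_smul, h₂, smul_zero]
    obtain ⟨t', ht', hw'⟩ := hker w
    rw [hw, map_smul, map_smul] at hw'
    have h1 := congrArg gκ hw'
    rw [map_zero, map_smul, map_smul, show gκ (AlgebraTensorModule.rTensor A κ K'.mkQ ξ) = s • z from hys.symm,
      Submonoid.smul_def, smul_smul, smul_smul] at h1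
    have hunit := IsLocalizedModule.map_units gκ ⟨_, T.mul_mem (T.mul_mem ht' t.2) s.2⟩
    apply ((Module.End.isUnit_iff _).mp hunit).1
    rw [map_zero]
    exact h1
  intro x hx
  have h1 : g (K'.mkQ x) = 0 := by
    have h2 : uP (g (K'.mkQ x)) = 0 := by
      rw [hu, show fac (K'.mkQ x) = 0 from (Submodule.Quotient.mk_eq_zero K).mpr hx, map_zero]
    refine (TensorProduct.rid A _).symm.injective (hinj ?_)
    rw [TensorProduct.rid_symm_apply, LinearMap.rTensor_tmul, map_zero, map_zero]
    show uP (g (K'.mkQ x)) ⊗ₜ[A] (1 : A) = 0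
    rw [h2, TensorProduct.zero_tmul]
  obtain ⟨s, hs⟩ := (IsLocalizedModule.eq_zero_iff T g).mp h1
  exact ⟨s, s.2, (Submodule.Quotient.mk_eq_zero K').mp hs⟩

/-- A prime over a surjection with nil kernel. -/
theorem exists_prime_over {B : Type u} [CommRing B] [Algebra A B] (hB : Function.Surjective (algebraMap A B))
    (hker : RingHom.ker (algebraMap A B) ≤ nilradical A) :
    ∃ q' : PrimeSpectrum (MvPolynomial (Fin n) B), PrimeSpectrum.comap (MvPolynomial.map (algebraMap A B)) q' = q := by
  have h : RingHom.ker (MvPolynomial.map (σ := Fin n) (algebraMap A B)) ≤ q.asIdeal := by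
    rw [MvPolynomial.ker_map, Ideal.map_le_iff_le_comap]
    intro c hc
    obtain ⟨k, hk⟩ := mem_nilradical.mp (hker hc)
    exact q.2.mem_of_pow_mem k (by rw [← map_pow, hk, map_zero]; exact zero_mem _)
  have hs := MvPolynomial.map_surjective (σ := Fin n) _ hB
  refine ⟨⟨q.asIdeal.map _, Ideal.map_isPrime_of_surjective hs h⟩, PrimeSpectrum.ext ?_⟩
  rw [PrimeSpectrum.comap_asIdeal, Ideal.comap_map_of_surjective _ hs, sup_eq_left]
  exact h

/-- A quotient of a free module flat at a prime is there presented by finitely many relations. -/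
theorem exists_fg_le_sat (K : Submodule (MvPolynomial (Fin n) A) (FreeMod A a n))
    (q : PrimeSpectrum (MvPolynomial (Fin n) A)) (hK : q ∈ flatSet K) :
    ∃ K', K'.FG ∧ K' ≤ K ∧ K ≤ Sat q.asIdeal.primeCompl K' ∧ q ∈ flatSet K' := by
  obtain ⟨K', hfg, hle, hgen⟩ := exists_residue_generators K (q.asIdeal.comap C)
  suffices h : K ≤ Sat q.asIdeal.primeCompl K' from
    ⟨K', hfg, hle, h, mem_flatSet_congr (hle.trans (le_sat _ _)) h hK⟩
  haveI : IsReduced (A ⧸ nilradical A) :=
    (Ideal.isRadical_iff_quotient_reduced _).mp (Ideal.radical_isRadical _)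
  obtain ⟨qr, hqr⟩ := exists_prime_over q (B := A ⧸ nilradical A) Ideal.Quotient.mk_surjective
    (by rw [Ideal.Quotient.algebraMap_eq, Ideal.mk_ker])
  have hred : qr ∈ flatSet (locN (A ⧸ nilradical A) K') := by
    refine mem_flatSet_of_valuation (locN_fg _ hfg) qr fun W _ _ _ _ Q hQ hQm => ?_
    letI : Algebra A W := ((algebraMap (A ⧸ nilradical A) W).comp (algebraMap A _)).toAlgebra
    haveI : IsScalarTower A (A ⧸ nilradical A) W := .of_algebraMap_eq fun _ => rfl
    rw [locN_locN]
    refine (le_sat_valuation hle q rfl hgen hK W Q ?_ hQm).2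
    rw [← hqr, ← hQ, ← PrimeSpectrum.comap_comp_apply]
    congr 1
    exact MvPolynomial.ringHom_ext (fun c => by simp [RingHom.algebraMap_toAlgebra]) fun i => by simp
  obtain ⟨S₀, N₀, hS₀, hN₀⟩ := exists_base K' hfg
  haveI := hS₀
  rw [← hN₀] at hred
  obtain ⟨J, hJ, qJ, hqJ, hflat⟩ := exists_flat_nilpotent_aux N₀ qr hred
  rw [hN₀] at hflat
  rw [hqr] at hqJ
  have hKJ : qJ ∈ flatSet (locN (A ⧸ J) K) := mem_flatSet_of_comap A K qJ (by rw [hqJ]; exact hK)
  have hquot : locN (A ⧸ J) K ≤ Sat qJ.asIdeal.primeCompl (locN (A ⧸ J) K') := by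
    refine le_sat_of_fibres (locN_mono _ hle) qJ (locN_fg _ hfg) hflat hKJ fun p _ v hv =>
      exists_smul_phi_mem qJ (K := locN (A ⧸ J) K) ?_ p hv
    intro W _ _ _ _ Q hQ hQm
    letI : Algebra A W := ((algebraMap (A ⧸ J) W).comp (algebraMap A _)).toAlgebra
    haveI : IsScalarTower A (A ⧸ J) W := .of_algebraMap_eq fun _ => rfl
    rw [locN_locN, locN_locN]
    refine (le_sat_valuation hle q rfl hgen hK W Q ?_ hQm).1
    rw [← hqJ, ← hQ, ← PrimeSpectrum.comap_comp_apply]
    congr 1
    exact MvPolynomial.ringHom_ext (fun c => by simp [RingHom.algebraMap_toAlgebra]) fun i => by simp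
  have hbase : K ≤ Sat q.asIdeal.primeCompl (K' ⊔ cf J) := fun x hx => by
    obtain ⟨s', hs', hs'x⟩ := hquot (phi_mem _ K hx)
    obtain ⟨s, rfl⟩ := MvPolynomial.map_surjective (algebraMap A (A ⧸ J)) Ideal.Quotient.mk_surjective s'
    refine ⟨s, fun h => hs' (by rw [← hqJ] at h; exact h), ?_⟩
    rw [← phi_smul] at hs'x
    have := mem_sup_cf_of_phi (A := A ⧸ J) Ideal.Quotient.mk_surjective K' hs'x
    rwa [Ideal.Quotient.algebraMap_eq, Ideal.mk_ker] at this
  have hind : ∀ i, K ≤ Sat q.asIdeal.primeCompl (K' ⊔ cf (J ^ i)) := fun i => by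
    induction i with
    | zero => exact fun x _ => le_sat _ _ (Submodule.mem_sup_right (mem_cf.mpr fun j => by simp))
    | succ i ih =>
      intro x hx
      obtain ⟨s, hs, hsx⟩ := ih hx
      obtain ⟨k, hk, y, hy, hky⟩ := Submodule.mem_sup.mp hsx
      refine mem_sat_of_smul hs ?_
      rw [← hky]
      refine add_mem (le_sat _ _ (Submodule.mem_sup_left hk)) ?_
      have hyK : y ∈ K := by
        rw [eq_sub_of_add_eq' hky]
        exact sub_mem (K.smul_mem _ hx) (hle hk)
      refine sat_le ?_ (mem_flatSet_iff.mp hK (J ^ i) ⟨hyK, hy⟩)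
      refine (Submodule.smul_mono le_rfl hbase).trans ((smul_sat_le _ _).trans (sat_mono le_rfl ?_))
      rw [Submodule.smul_sup]
      refine sup_le_sup Submodule.smul_le_right ((smul_cf_le _ _).trans ?_)
      rw [← pow_succ]
  obtain ⟨N, hN⟩ := hJ
  have := hind N
  rwa [hN, Submodule.zero_eq_bot, cf_bot, sup_bot_eq] at this

end Groth.Agent.RGFlatLib
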