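import Groth.Agent.RGFlatLib.Basic
import Mathlib.RingTheory.Flat.TorsionFree
import Mathlib.RingTheory.LocalRing.Module

/-!
# Saturated submodules over a valuation ring are finitely generated

The pieces of bounded degree of a saturated submodule are finite free direct summands, and their
reductions modulo the maximal ideal form a filtration of a submodule of a free module over a
Noetherian polynomial ring, hence are generated in bounded degree.
-/

set_option autoImplicit false
set_option linter.style.haveILetI false

universe u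

open MvPolynomial Groth.Agent.GenFree Groth.Agent.FlatLocus

noncomputable section

namespace Groth.Agent.RGFlatLib

section Stable

variable {k : Type u} [CommRing k] {a n : ℕ}

/-- A filtration compatible with the degree. -/
structure Stable (V : ℕ → Submodule k (FreeMod k a n)) : Prop where
  mono : ∀ d, V d ≤ V (d + 1)
  mul : ∀ d (j : Fin n), ∀ v ∈ V d, (X j : MvPolynomial (Fin n) k) • v ∈ V (d + 1)

/-- The variables of the homogenised polynomial ring, as graded elements. -/
def gr (k : Type u) [CommRing k] (n : ℕ) :
    MvPolynomial (Option (Fin n)) k →ₐ[k] Polynomial (MvPolynomial (Fin n) k) :=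
  aeval fun o => o.elim Polynomial.X fun j => Polynomial.C (X j) * Polynomial.X

/-- A component of a vector of homogenised polynomials. -/
def comp (P : Fin a → MvPolynomial (Option (Fin n)) k) (d : ℕ) : FreeMod k a n :=
  fun s => (gr k n (P s)).coeff d

theorem comp_add (P P' : Fin a → MvPolynomial (Option (Fin n)) k) (d : ℕ) :
    comp (P + P') d = comp P d + comp P' d := funext fun s => by
  simp only [comp, Pi.add_apply, map_add, Polynomial.coeff_add]

/-- The vectors of homogenised polynomials with components in a stable family. -/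
def lifted (V : ℕ → Submodule k (FreeMod k a n)) (hV : Stable V) :
    Submodule (MvPolynomial (Option (Fin n)) k) (Fin a → MvPolynomial (Option (Fin n)) k) where
  carrier := {P | ∀ d, comp P d ∈ V d}
  zero_mem' d := by
    rw [show comp (0 : Fin a → MvPolynomial (Option (Fin n)) k) d = 0 from funext fun s => by simp [comp]]
    exact zero_mem _
  add_mem' {P P'} hP hP' d := by rw [comp_add]; exact add_mem (hP d) (hP' d)
  smul_mem' c := by
    induction c using MvPolynomial.induction_on with
    | C r =>
      intro P hP d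
      have : comp ((C r : MvPolynomial (Option (Fin n)) k) • P) d = r • comp P d := funext fun s => by
        simp only [comp, Pi.smul_apply, smul_eq_mul, map_mul]
        rw [gr, aeval_C, ← gr, ← Algebra.smul_def, Polynomial.coeff_smul]
      rw [this]
      exact Submodule.smul_mem _ _ (hP d)
    | add p p' hp hp' =>
      intro P hP d
      rw [add_smul, comp_add]
      exact add_mem (hp hP d) (hp' hP d)
    | mul_X p o hp =>
      intro P hP
      rw [mul_smul]
      refine hp fun d => ?_
      have hX : ∀ d, comp ((X o : MvPolynomial (Option (Fin n)) k) • P) d =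
          fun s => (gr k n (X o) * gr k n (P s)).coeff d := fun d => funext fun s => by
        simp only [comp, Pi.smul_apply, smul_eq_mul, map_mul]
      rw [hX]
      cases o with
      | none =>
        cases d with
        | zero =>
          rw [show (fun s => (gr k n (X none) * gr k n (P s)).coeff 0) = (0 : FreeMod k a n) from
            funext fun s => by simp [gr]]
          exact zero_mem _
        | succ d =>
          rw [show (fun s => (gr k n (X none) * gr k n (P s)).coeff (d + 1)) = comp P d from
            funext fun s => by simp [gr, comp, Polynomial.coeff_X_mul]]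
          exact hV.mono d (hP d)
      | some j =>
        cases d with
        | zero =>
          rw [show (fun s => (gr k n (X (some j)) * gr k n (P s)).coeff 0) = (0 : FreeMod k a n) from
            funext fun s => by simp [gr]]
          exact zero_mem _
        | succ d =>
          rw [show (fun s => (gr k n (X (some j)) * gr k n (P s)).coeff (d + 1)) =
              (X j : MvPolynomial (Fin n) k) • comp P d from
            funext fun s => by simp [gr, comp, mul_assoc, Polynomial.coeff_X_mul]]
          exact hV.mul d j _ (hP d)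

theorem exists_gr_monomial (d : ℕ) : ∀ α : Fin n →₀ ℕ, α.degree ≤ d →
    ∃ P, gr k n P = Polynomial.C (monomial α 1) * Polynomial.X ^ d := by
  induction d with
  | zero =>
    intro α hα
    obtain rfl : α = 0 := Finsupp.degree_eq_zero_iff α |>.mp (Nat.le_zero.mp hα)
    exact ⟨1, by simp⟩
  | succ d ih =>
    intro α hα
    by_cases h0 : α.degree ≤ d
    · obtain ⟨P, hP⟩ := ih α h0
      exact ⟨X none * P, by rw [map_mul, hP, gr, aeval_X]; simp only [Option.elim_none, pow_succ]; ring⟩
    · obtain ⟨j, hj⟩ : ∃ j, α j ≠ 0 := by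
        by_contra h
        push Not at h
        exact h0 (by rw [show α = 0 from Finsupp.ext h]; simp)
      have hα' : α = (α - Finsupp.single j 1) + Finsupp.single j 1 :=
        (tsub_add_cancel_of_le (Finsupp.single_le_iff.mpr (Nat.one_le_iff_ne_zero.mpr hj))).symm
      obtain ⟨P, hP⟩ := ih (α - Finsupp.single j 1) (by
        have := congrArg Finsupp.degree hα'
        rw [map_add, Finsupp.degree_single] at this
        omega)
      refine ⟨X (some j) * P, ?_⟩
      conv_rhs => rw [hα']
      rw [map_mul, hP, gr, aeval_X, monomial_add_single]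
      simp only [Option.elim_some, pow_succ, map_mul, pow_one, pow_zero, one_mul]
      ring

theorem exists_comp_eq (d : ℕ) (v : FreeMod k a n) (hv : ∀ i : Idx a n, co i v ≠ 0 → i.2.degree ≤ d) :
    ∃ P : Fin a → MvPolynomial (Option (Fin n)) k, ∀ d', comp P d' = if d' = d then v else 0 := by
  classical
  choose! P hP using exists_gr_monomial (k := k) (n := n) d
  refine ⟨fun s => ∑ m ∈ (v s).support, C (coeff m (v s)) * P m, fun d' => funext fun s => ?_⟩
  have : gr k n (∑ m ∈ (v s).support, C (coeff m (v s)) * P m) = Polynomial.C (v s) * Polynomial.X ^ d := by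
    rw [map_sum]
    conv_rhs => rw [(v s).as_sum, map_sum, Finset.sum_mul]
    refine Finset.sum_congr rfl fun m hm => ?_
    rw [map_mul, hP m (hv (s, m) (by rw [co_apply]; exact mem_support_iff.mp hm)), gr, aeval_C,
      Polynomial.algebraMap_apply, MvPolynomial.algebraMap_eq, ← mul_assoc, ← map_mul, C_mul_monomial, mul_one]
  show (gr k n _).coeff d' = _
  rw [this, Polynomial.coeff_C_mul_X_pow]
  split_ifs <;> rfl

/-- The degree of a vector of homogenised polynomials. -/
def gdeg (P : Fin a → MvPolynomial (Option (Fin n)) k) : ℕ :=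
  Finset.univ.sup fun s => (gr k n (P s)).natDegree

theorem comp_eq_zero {P : Fin a → MvPolynomial (Option (Fin n)) k} {e : ℕ} (h : gdeg P < e) :
    comp P e = 0 :=
  funext fun s => Polynomial.coeff_eq_zero_of_natDegree_lt <|
    (Finset.le_sup (f := fun s => (gr k n (P s)).natDegree) (Finset.mem_univ s)).trans_lt h

/-- A stable filtration is generated in bounded degree. -/
theorem exists_bound [IsNoetherianRing k] (V : ℕ → Submodule k (FreeMod k a n)) (hV : Stable V)
    (hdeg : ∀ d, ∀ v ∈ V d, ∀ i : Idx a n, co i v ≠ 0 → i.2.degree ≤ d) :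
    ∃ D, ∀ V' : ℕ → Submodule k (FreeMod k a n), Stable V' → (∀ d ≤ D, V d ≤ V' d) → ∀ d, V d ≤ V' d := by
  classical
  obtain ⟨G, hG⟩ := IsNoetherian.noetherian (lifted V hV)
  refine ⟨G.sup gdeg, fun V' hV' hle d v hv => ?_⟩
  have hGV : lifted V hV ≤ lifted V' hV' := by
    rw [← hG, Submodule.span_le]
    intro P hP e
    have hPV : P ∈ lifted V hV := hG ▸ Submodule.subset_span hP
    by_cases he : e ≤ G.sup gdeg
    · exact hle e he (hPV e)
    · rw [comp_eq_zero ((Finset.le_sup (f := gdeg) (Finset.mem_coe.mp hP)).trans_lt (not_le.mp he))]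
      exact zero_mem _
  obtain ⟨P, hP⟩ := exists_comp_eq d v (hdeg d v hv)
  have := hGV (show P ∈ lifted V hV from fun e => by
    rw [hP]; split_ifs with h
    · exact h ▸ hv
    · exact zero_mem _) d
  rwa [hP, if_pos rfl] at this

end Stable

section Valuation

variable {W : Type u} [CommRing W] [IsDomain W] {a n : ℕ}

/-- The saturation with respect to the nonzero scalars. -/
def satW (U : Submodule (MvPolynomial (Fin n) W) (FreeMod W a n)) :
    Submodule (MvPolynomial (Fin n) W) (FreeMod W a n) :=
  Sat (Submonoid.map (C : W →+* MvPolynomial (Fin n) W) (nonZeroDivisors W)) U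

theorem mem_satW {U : Submodule (MvPolynomial (Fin n) W) (FreeMod W a n)} {x : FreeMod W a n} :
    x ∈ satW U ↔ ∃ w : W, w ≠ 0 ∧ (C w : MvPolynomial (Fin n) W) • x ∈ U := by
  constructor
  · rintro ⟨_, ⟨w, hw, rfl⟩, h⟩
    exact ⟨w, nonZeroDivisors.ne_zero hw, h⟩
  · rintro ⟨w, hw, h⟩
    exact ⟨C w, ⟨w, mem_nonZeroDivisors_of_ne_zero hw, rfl⟩, h⟩

theorem mem_satW_of_smul {U : Submodule (MvPolynomial (Fin n) W) (FreeMod W a n)} {x : FreeMod W a n}
    {w : W} (hw : w ≠ 0) (h : (C w : MvPolynomial (Fin n) W) • x ∈ satW U) : x ∈ satW U :=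
  mem_sat_of_smul ⟨w, mem_nonZeroDivisors_of_ne_zero hw, rfl⟩ h

variable (W a n) in
/-- The vectors of bounded degree. -/
def lowDeg (d : ℕ) : Submodule W (FreeMod W a n) where
  carrier := {v | ∀ i : Idx a n, d < i.2.degree → co i v = 0}
  zero_mem' := fun _ _ => map_zero _
  add_mem' := fun hv hw i hi => by rw [map_add, hv i hi, hw i hi, add_zero]
  smul_mem' := fun c v hv i hi => by rw [map_smul, hv i hi, smul_zero]

variable (W a n) in
theorem lowDeg_fg (d : ℕ) : (lowDeg W a n d).FG := by
  classical
  have hfin : {i : Idx a n | i.2.degree ≤ d}.Finite := by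
    refine ((Set.finite_univ (α := Fin a)).prod (Set.finite_Iic (Finsupp.equivFunOnFinite.symm fun _ : Fin n => d))).subset ?_
    intro i hi
    exact ⟨trivial, fun j => by
      simpa using (Finsupp.le_degree j i.2).trans hi⟩
  refine ⟨hfin.toFinset.image single, le_antisymm (Submodule.span_le.mpr ?_) fun v hv => ?_⟩
  · rw [Finset.coe_image]
    rintro _ ⟨i, hi, rfl⟩ j hj
    rw [co_single, if_neg]
    rintro rfl
    exact absurd (hfin.mem_toFinset.mp hi) (not_le.mpr hj)
  · rw [eq_sum_single v (s := hfin.toFinset) fun i hi => hfin.mem_toFinset.mpr (not_lt.mp fun h => hi (hv i h))]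
    exact sum_mem fun i hi => Submodule.smul_mem _ _ (Submodule.subset_span (Finset.mem_image_of_mem _ hi))

/-- The bounded degree piece of a submodule. -/
def piece (U : Submodule (MvPolynomial (Fin n) W) (FreeMod W a n)) (d : ℕ) : Submodule W (FreeMod W a n) :=
  (U.restrictScalars W) ⊓ lowDeg W a n d

theorem piece_mono (U : Submodule (MvPolynomial (Fin n) W) (FreeMod W a n)) (d : ℕ) :
    piece U d ≤ piece U (d + 1) :=
  fun _ hv => ⟨hv.1, fun i hi => hv.2 i (Nat.lt_of_succ_lt hi)⟩

theorem piece_mul (U : Submodule (MvPolynomial (Fin n) W) (FreeMod W a n)) (d : ℕ) (j : Fin n)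
    {v : FreeMod W a n} (hv : v ∈ piece U d) : (X j : MvPolynomial (Fin n) W) • v ∈ piece U (d + 1) := by
  refine ⟨U.smul_mem _ hv.1, fun i hi => ?_⟩
  rw [co_apply, Pi.smul_apply, smul_eq_mul, coeff_X_mul']
  split_ifs with h
  · have hji : Finsupp.single j 1 ≤ i.2 := Finsupp.single_le_iff.mpr
      (Nat.one_le_iff_ne_zero.mpr (Finsupp.mem_support_iff.mp h))
    have := hv.2 (i.1, i.2 - Finsupp.single j 1) (by
      have hd := congrArg Finsupp.degree (tsub_add_cancel_of_le hji)
      rw [map_add, Finsupp.degree_single] at hd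
      show d < Finsupp.degree (i.2 - Finsupp.single j 1)
      omega)
    rwa [co_apply] at this
  · rfl

variable [ValuationRing W]

theorem piece_satW_fg (U : Submodule (MvPolynomial (Fin n) W) (FreeMod W a n)) (d : ℕ) :
    (piece (satW U) d).FG := by
  let L := lowDeg W a n d
  haveI : Module.Finite W L := Module.Finite.iff_fg.mpr (lowDeg_fg W a n d)
  let T : Submodule W L := Submodule.comap L.subtype ((satW U).restrictScalars W)
  haveI : Module.Flat W (L ⧸ T) := by
    rw [Module.Flat.flat_iff_torsion_eq_bot_of_isBezout, eq_bot_iff]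
    intro x hx
    obtain ⟨x, rfl⟩ := Submodule.Quotient.mk_surjective _ x
    obtain ⟨⟨w, hw⟩, hwx⟩ := hx
    rw [Submonoid.smul_def, ← Submodule.Quotient.mk_smul, Submodule.Quotient.mk_eq_zero] at hwx
    refine (Submodule.mem_bot W).mpr ((Submodule.Quotient.mk_eq_zero _).mpr ?_)
    refine mem_satW_of_smul (nonZeroDivisors.ne_zero hw) ?_
    have hC : (C w : MvPolynomial (Fin n) W) • L.subtype x = w • L.subtype x := algebraMap_smul _ w _
    rw [hC]
    exact hwx
  haveI : Module.Free W (L ⧸ T) := Module.free_of_flat_of_isLocalRing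
  obtain ⟨σ, hσ⟩ := Module.projective_lifting_property T.mkQ LinearMap.id T.mkQ_surjective
  let r : L →ₗ[W] T := LinearMap.codRestrict T (LinearMap.id - σ ∘ₗ T.mkQ) fun x => by
    rw [← Submodule.Quotient.mk_eq_zero]
    show T.mkQ (x - σ (T.mkQ x)) = 0
    rw [map_sub, show T.mkQ (σ (T.mkQ x)) = T.mkQ x from LinearMap.congr_fun hσ _, sub_self]
  have hr : Function.Surjective r := fun x => ⟨x.1, Subtype.ext (by
    show x.1 - σ (T.mkQ x.1) = x.1
    rw [show T.mkQ x.1 = 0 from (Submodule.Quotient.mk_eq_zero _).mpr x.2, map_zero, sub_zero])⟩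
  haveI : Module.Finite W T := Module.Finite.of_surjective r hr
  have : piece (satW U) d = T.map L.subtype := by
    rw [Submodule.map_comap_subtype, inf_comm]
    rfl
  rw [this]
  exact (Module.Finite.iff_fg.mp inferInstance).map _

/-- A saturated submodule over a valuation ring is finitely generated. -/
theorem satW_fg (U : Submodule (MvPolynomial (Fin n) W) (FreeMod W a n)) : (satW U).FG := by
  classical
  let k := IsLocalRing.ResidueField W
  let T := satW U
  haveI : RingHomSurjective (algebraMap W k) := ⟨IsLocalRing.residue_surjective⟩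
  let red : FreeMod W a n →ₛₗ[algebraMap W k] FreeMod k a n :=
    { toFun := phi k
      map_add' := map_add _
      map_smul' := fun c v => by rw [map_smul, algebraMap_smul] }
  have hred : ∀ (E : ℕ → Submodule W (FreeMod W a n)), (∀ d, E d ≤ E (d + 1)) →
      (∀ d (j : Fin n), ∀ v ∈ E d, (X j : MvPolynomial (Fin n) W) • v ∈ E (d + 1)) →
      Stable fun d => (E d).map red := fun E h1 h2 =>
    ⟨fun d => Submodule.map_mono (h1 d), fun d j w hw => by
      obtain ⟨v, hv, rfl⟩ := hw
      exact ⟨_, h2 d j v hv, (phi_smul k (X j) v).trans (by rw [map_X]; rfl)⟩⟩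
  let V : ℕ → Submodule k (FreeMod k a n) := fun d => (piece T d).map red
  obtain ⟨D, hD⟩ := exists_bound V (hred _ (piece_mono T) fun d j v hv => piece_mul T d j hv) (by
    rintro d _ ⟨v, hv, rfl⟩ i hi
    by_contra hd
    exact hi (show co i (phi k v) = 0 by rw [co_phi, hv.2 i (not_le.mp hd), map_zero]))
  let S := Submodule.span (MvPolynomial (Fin n) W) (piece T D : Set (FreeMod W a n))
  have hpiece : ∀ d ≤ D, piece T d ≤ piece T D := fun d hd =>
    monotone_nat_of_le_succ (piece_mono T) hd
  have hST : S ≤ T := Submodule.span_le.mpr fun v hv => hv.1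
  have hV := hD (fun d => (piece S d).map red) (hred _ (piece_mono S) fun d j v hv => piece_mul S d j hv)
    fun d hd => Submodule.map_mono fun v hv => ⟨Submodule.subset_span (hpiece d hd hv), hv.2⟩
  have hle : ∀ d, piece T d ≤ piece S d := fun d => by
    refine Submodule.le_of_le_smul_of_le_jacobson_bot (piece_satW_fg U d)
      (IsLocalRing.maximalIdeal_le_jacobson _) fun v hv => ?_
    obtain ⟨e, he, hev⟩ := hV d ⟨v, hv, rfl⟩
    refine Submodule.mem_sup.mpr ⟨e, he, v - e, ?_, add_sub_cancel e v⟩
    have hvT : v - e ∈ piece T d := sub_mem hv ⟨hST he.1, he.2⟩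
    have hcf : v - e ∈ cf (IsLocalRing.maximalIdeal W) := by
      rw [← IsLocalRing.ker_residue]
      exact mem_cf_of_phi_eq_zero (A := k) (by rw [map_sub]; exact sub_eq_zero.mpr hev.symm)
    rcases eq_or_ne (v - e) 0 with h0 | h0
    · rw [h0]; exact zero_mem _
    obtain ⟨c, hc, hc0, y, hy, hy0⟩ := exists_smul_eq hcf h0
    rw [← hy, show (C c : MvPolynomial (Fin n) W) • y = c • y from algebraMap_smul _ c y]
    refine Submodule.smul_mem_smul hc ⟨mem_satW_of_smul hc0 (hy ▸ hvT.1), fun i hi => hy0 i (hvT.2 i hi)⟩
  have hTS : T ≤ S := fun v hv => by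
    refine (hle ((finite_support v).toFinset.sup fun i => i.2.degree) ⟨hv, fun i hi => ?_⟩).1
    by_contra h
    exact absurd (Finset.le_sup (f := fun i : Idx a n => i.2.degree) ((finite_support v).mem_toFinset.mpr h))
      (not_le.mpr hi)
  obtain ⟨G, hG⟩ := piece_satW_fg U D
  refine ⟨G, le_antisymm (Submodule.span_le.mpr fun g hg =>
    ((hG ▸ Submodule.subset_span hg : g ∈ piece T D)).1) (hTS.trans (Submodule.span_le.mpr ?_))⟩
  rw [← hG]
  exact Submodule.span_le_restrictScalars W (MvPolynomial (Fin n) W) (G : Set (FreeMod W a n))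

end Valuation

end Groth.Agent.RGFlatLib
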