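import Groth.Agent.RGFlatLib.Criterion
import Groth.Agent.FlatLocus.Gen

/-!
# Flatness from valuation rings, by an ultraproduct
-/

set_option autoImplicit false
set_option linter.style.haveILetI false
set_option maxHeartbeats 1000000

universe u

open MvPolynomial Groth.Agent.GenFree Groth.Agent.FlatLocus Filter

noncomputable section

namespace Groth.Agent.RGFlatLib

section Ultraproduct

variable {ι : Type u} (U : Ultrafilter ι) (V : ι → Type u) [∀ t, CommRing (V t)]

/-- The sequences vanishing eventually. -/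
def nullSeq : Ideal (∀ t, V t) where
  carrier := {f | ∀ᶠ t in (U : Filter ι), f t = 0}
  zero_mem' := Eventually.of_forall fun _ => rfl
  add_mem' := fun {f g} hf hg => by
    filter_upwards [hf, hg] with t h₁ h₂
    show f t + g t = 0
    rw [h₁, h₂, add_zero]
  smul_mem' := fun c f hf => by
    filter_upwards [hf] with t h
    show c t * f t = 0
    rw [h, mul_zero]

theorem mk_nullSeq_eq {f g : ∀ t, V t} :
    Ideal.Quotient.mk (nullSeq U V) f = Ideal.Quotient.mk (nullSeq U V) g ↔
      ∀ᶠ t in (U : Filter ι), f t = g t := by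
  rw [Ideal.Quotient.eq]
  exact eventually_congr (Eventually.of_forall fun t => sub_eq_zero)

/-- The ultraproduct. -/
def UP : Type u := (∀ t, V t) ⧸ nullSeq U V

instance : CommRing (UP U V) := inferInstanceAs (CommRing ((∀ t, V t) ⧸ nullSeq U V))

/-- The projection to the ultraproduct. -/
def mkU : (∀ t, V t) →+* UP U V := Ideal.Quotient.mk (nullSeq U V)

theorem mkU_surjective : Function.Surjective (mkU U V) := Ideal.Quotient.mk_surjective

theorem mkU_eq {f g : ∀ t, V t} : mkU U V f = mkU U V g ↔ ∀ᶠ t in (U : Filter ι), f t = g t :=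
  mk_nullSeq_eq U V

theorem mkU_eq_zero {f : ∀ t, V t} : mkU U V f = 0 ↔ ∀ᶠ t in (U : Filter ι), f t = 0 :=
  Ideal.Quotient.eq_zero_iff_mem

variable [∀ t, IsDomain (V t)]

instance isPrime_nullSeq : (nullSeq U V).IsPrime where
  ne_top' h := by
    obtain ⟨t, ht⟩ := ((show (1 : ∀ t, V t) ∈ nullSeq U V by rw [h]; trivial) :
      ∀ᶠ t in (U : Filter ι), (1 : ∀ t, V t) t = 0).exists
    exact one_ne_zero ht
  mem_or_mem' := fun {f g} h => by
    have h' : ∀ᶠ t in (U : Filter ι), f t = 0 ∨ g t = 0 := by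
      filter_upwards [h] with t ht
      exact mul_eq_zero.mp ht
    exact Ultrafilter.eventually_or.mp h'

instance : IsDomain (UP U V) := inferInstanceAs (IsDomain ((∀ t, V t) ⧸ nullSeq U V))

variable [∀ t, ValuationRing (V t)]

instance valuationRing_UP : ValuationRing (UP U V) where
  cond' x y := by
    obtain ⟨f, rfl⟩ := mkU_surjective U V x
    obtain ⟨g, rfl⟩ := mkU_surjective U V y
    choose c hc using fun t => PreValuationRing.cond (f t) (g t)
    refine ⟨mkU U V c, ?_⟩
    rw [← map_mul, ← map_mul, mkU_eq, mkU_eq]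
    exact Ultrafilter.eventually_or.mp (Eventually.of_forall hc)

theorem eventually_mem_maximalIdeal {f : ∀ t, V t}
    (h : mkU U V f ∈ IsLocalRing.maximalIdeal (UP U V)) :
    ∀ᶠ t in (U : Filter ι), f t ∈ IsLocalRing.maximalIdeal (V t) := by
  by_contra hcon
  rw [← Ultrafilter.eventually_not] at hcon
  classical
  have hunit : ∀ t, ∃ g : V t, f t ∉ IsLocalRing.maximalIdeal (V t) → f t * g = 1 := fun t => by
    by_cases ht : f t ∈ IsLocalRing.maximalIdeal (V t)
    · exact ⟨0, fun h => absurd ht h⟩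
    · obtain ⟨v, hv⟩ := IsLocalRing.notMem_maximalIdeal.mp ht
      exact ⟨↑v⁻¹, fun _ => by rw [← hv, Units.mul_inv]⟩
  choose g hg using hunit
  refine (IsLocalRing.mem_maximalIdeal _).mp h (IsUnit.of_mul_eq_one (mkU U V g) ?_)
  rw [← map_mul, ← map_one (mkU U V), mkU_eq]
  filter_upwards [hcon] with t ht
  exact hg t ht

variable {n : ℕ} (Q : ∀ t, PrimeSpectrum (MvPolynomial (Fin n) (V t)))

/-- Polynomials lying eventually in the given primes. -/
def seqIdeal : Ideal (MvPolynomial (Fin n) (∀ t, V t)) where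
  carrier := {f | ∀ᶠ t in (U : Filter ι), MvPolynomial.map (Pi.evalRingHom V t) f ∈ (Q t).asIdeal}
  zero_mem' := Eventually.of_forall fun t => by simp
  add_mem' := fun {f g} hf hg => by
    filter_upwards [hf, hg] with t h₁ h₂
    rw [map_add]
    exact add_mem h₁ h₂
  smul_mem' := fun c f hf => by
    filter_upwards [hf] with t h
    rw [smul_eq_mul, map_mul]
    exact Ideal.mul_mem_left _ _ h

instance isPrime_seqIdeal : (seqIdeal U V Q).IsPrime where
  ne_top' h := by
    obtain ⟨t, ht⟩ := ((show (1 : MvPolynomial (Fin n) (∀ t, V t)) ∈ seqIdeal U V Q by rw [h]; trivial) :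
      ∀ᶠ t in (U : Filter ι), _).exists
    rw [map_one] at ht
    exact (Q t).2.one_notMem ht
  mem_or_mem' := fun {f g} h => by
    refine Ultrafilter.eventually_or.mp ?_
    filter_upwards [(h : ∀ᶠ t in (U : Filter ι), _)] with t ht
    rw [map_mul] at ht
    exact (Q t).2.mem_or_mem ht

theorem ker_le_seqIdeal :
    RingHom.ker (MvPolynomial.map (σ := Fin n) (mkU U V)) ≤ seqIdeal U V Q := by
  intro f hf
  have h1 : ∀ᶠ t in (U : Filter ι), ∀ m ∈ f.support, coeff m f t = 0 := by
    rw [eventually_all_finset]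
    intro m _
    have := congrArg (coeff m) (RingHom.mem_ker.mp hf)
    rw [coeff_map, coeff_zero, mkU_eq_zero] at this
    exact this
  filter_upwards [h1] with t ht
  have : MvPolynomial.map (Pi.evalRingHom V t) f = 0 := MvPolynomial.ext _ _ fun m => by
    rw [coeff_map, coeff_zero]
    by_cases hm : m ∈ f.support
    · exact ht m hm
    · rw [notMem_support_iff.mp hm]; rfl
  rw [this]
  exact zero_mem _

/-- The prime defined by a family of primes. -/
def seqPrime : PrimeSpectrum (MvPolynomial (Fin n) (UP U V)) :=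
  ⟨(seqIdeal U V Q).map (MvPolynomial.map (mkU U V)),
    Ideal.map_isPrime_of_surjective (MvPolynomial.map_surjective _ (mkU_surjective U V))
      (ker_le_seqIdeal U V Q)⟩

theorem mem_seqPrime {f : MvPolynomial (Fin n) (∀ t, V t)} :
    MvPolynomial.map (mkU U V) f ∈ (seqPrime U V Q).asIdeal ↔
      f ∈ seqIdeal U V Q := by
  refine ⟨fun h => ?_, Ideal.mem_map_of_mem _⟩
  obtain ⟨g, hg, he⟩ := (Ideal.mem_map_iff_of_surjective _
    (MvPolynomial.map_surjective _ (mkU_surjective U V))).mp h
  rw [← sub_sub_cancel g f]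
  exact sub_mem hg (ker_le_seqIdeal U V Q (by rw [RingHom.mem_ker, map_sub, he, sub_self]))

end Ultraproduct

section Descent

variable {ι : Type u} (U : Ultrafilter ι) (V : ι → Type u) [∀ t, CommRing (V t)]
  {S₀ : Type u} [CommRing S₀] [IsNoetherianRing S₀] [∀ t, Algebra S₀ (V t)]

instance instAlgebraUP : Algebra S₀ (UP U V) := ((mkU U V).comp (algebraMap S₀ (∀ t, V t))).toAlgebra

theorem mkU_algebraMap (s : S₀) : mkU U V (algebraMap S₀ (∀ t, V t) s) = algebraMap S₀ (UP U V) s := rfl

variable [∀ t, IsDomain (V t)] [∀ t, ValuationRing (V t)] {a n : ℕ}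
  (Q : ∀ t, PrimeSpectrum (MvPolynomial (Fin n) (V t)))

/-- Flatness at the limit prime gives flatness at most members. -/
theorem eventually_mem_flatSet (N₀ : Submodule (MvPolynomial (Fin n) S₀) (FreeMod S₀ a n))
    (h : seqPrime U V Q ∈ flatSet (locN (UP U V) N₀)) :
    ∀ᶠ t in (U : Filter ι), Q t ∈ flatSet (locN (V t) N₀) := by
  classical
  obtain ⟨S', hS', hq'⟩ := exists_subalgebra N₀ (seqPrime U V Q) (mem_flatSet_iff.mp h _)
  haveI : IsNoetherianRing S' := isNoetherianRing_of_fg hS'
  haveI : Algebra.FiniteType S₀ S' := (Subalgebra.fg_iff_finiteType _).1 hS'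
  obtain ⟨_, ⟨g, rfl⟩, hgQ, hgsub⟩ :=
    PrimeSpectrum.isTopologicalBasis_basic_opens.exists_subset_of_mem_open hq'
      (isOpen_flatSet_noeth (locN S' N₀))
  obtain ⟨m, π, hπ⟩ := Algebra.FiniteType.iff_quotient_mvPolynomial''.mp ‹Algebra.FiniteType S₀ S'›
  choose lift hlift using fun i => mkU_surjective U V ((π (X i) : S') : UP U V)
  let Ψ : MvPolynomial (Fin m) S₀ →ₐ[S₀] (∀ t, V t) := aeval lift
  have hΨ : ∀ r, mkU U V (Ψ r) = ((π r : S') : UP U V) := fun r => by
    refine DFunLike.congr_fun (?_ : (mkU U V).comp Ψ.toRingHom = (S'.val.toRingHom).comp π.toRingHom) r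
    refine MvPolynomial.ringHom_ext (fun s => ?_) fun i => ?_
    · show mkU U V (aeval lift (C s)) = ((π (C s) : S') : UP U V)
      rw [aeval_C, show (C s : MvPolynomial (Fin m) S₀) = algebraMap S₀ _ s from rfl, π.commutes,
        mkU_algebraMap]
      rfl
    · show mkU U V (aeval lift (X i)) = ((π (X i) : S') : UP U V)
      rw [aeval_X, hlift]
  obtain ⟨G, hG⟩ : (RingHom.ker π.toRingHom).FG := IsNoetherian.noetherian _
  obtain ⟨g₀, hg₀⟩ := MvPolynomial.map_surjective π.toRingHom hπ g
  have hg' : MvPolynomial.map Ψ.toRingHom g₀ ∉ seqIdeal U V Q := by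
    rw [← mem_seqPrime, show MvPolynomial.map (mkU U V) (MvPolynomial.map Ψ.toRingHom g₀) =
      MvPolynomial.map (algebraMap S' (UP U V)) g by
      rw [← hg₀, MvPolynomial.map_map, MvPolynomial.map_map]
      exact congrArg (fun f => MvPolynomial.map f g₀) (RingHom.ext hΨ)]
    exact hgQ
  have h1 : ∀ᶠ t in (U : Filter ι), MvPolynomial.map (Pi.evalRingHom V t) (MvPolynomial.map Ψ.toRingHom g₀)
      ∉ (Q t).asIdeal := Ultrafilter.eventually_not.mpr hg'
  have h2 : ∀ᶠ t in (U : Filter ι), ∀ r ∈ G, Ψ r t = 0 := by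
    rw [eventually_all_finset]
    intro r hr
    have hr0 : π r = 0 := RingHom.mem_ker.mp (hG ▸ Ideal.subset_span hr : r ∈ RingHom.ker π.toRingHom)
    have := hΨ r
    rw [hr0, ZeroMemClass.coe_zero, mkU_eq_zero] at this
    exact this
  filter_upwards [h1, h2] with t ht1 ht2
  let evt := (Pi.evalRingHom V t).comp Ψ.toRingHom
  have hker : RingHom.ker π.toRingHom ≤ RingHom.ker evt := by
    rw [← hG, Ideal.span_le]
    exact fun r hr => ht2 r hr
  let σ : S' →+* V t := RingHom.liftOfSurjective π.toRingHom hπ ⟨evt, hker⟩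
  have hσ : ∀ r, σ (π r) = evt r := fun r => RingHom.liftOfRightInverse_comp_apply _ _ _ _ r
  letI : Algebra S' (V t) := σ.toAlgebra
  haveI : IsScalarTower S₀ S' (V t) := .of_algebraMap_eq fun s => by
    show _ = σ (algebraMap S₀ S' s)
    rw [← π.commutes, hσ]
    exact (congrFun (Ψ.commutes s) t).symm
  rw [← locN_locN S' N₀]
  refine mem_flatSet_of_comap S' _ _ (hgsub ?_)
  show MvPolynomial.map (algebraMap S' (V t)) g ∉ (Q t).asIdeal
  rw [← hg₀, MvPolynomial.map_map,
    show (algebraMap S' (V t)).comp π.toRingHom = evt from RingHom.ext hσ, ← MvPolynomial.map_map]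
  exact ht1

variable {A : Type u} [CommRing A] [Algebra S₀ A] (S : ι → Subalgebra S₀ A) [∀ t, Algebra (S t) (V t)]
  [∀ t, IsScalarTower S₀ (S t) (V t)]

/-- The map to the ultraproduct of a family of partially defined maps. -/
theorem exists_algHom_UP (hS : ∀ r : A, ∀ᶠ t in (U : Filter ι), r ∈ S t)
    (q : PrimeSpectrum (MvPolynomial (Fin n) A))
    (hQ : ∀ t, PrimeSpectrum.comap (MvPolynomial.map (algebraMap (S t) (V t))) (Q t) =
      PrimeSpectrum.comap (MvPolynomial.map (algebraMap (S t) A)) q) :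
    ∃ φ : A →ₐ[S₀] UP U V,
      PrimeSpectrum.comap (MvPolynomial.map φ.toRingHom) (seqPrime U V Q) = q := by
  classical
  let hat : A → ∀ t, V t := fun r t => if hr : r ∈ S t then algebraMap (S t) (V t) ⟨r, hr⟩ else 0
  have hat_eq : ∀ t (x : S t), hat x t = algebraMap (S t) (V t) x := fun t x => dif_pos x.2
  have hat_alg : ∀ s : S₀, hat (algebraMap S₀ A s) = algebraMap S₀ (∀ t, V t) s := fun s => funext fun t => by
    refine (hat_eq t (algebraMap S₀ (S t) s)).trans ?_
    rw [← IsScalarTower.algebraMap_apply]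
    rfl
  let φ : A →ₐ[S₀] UP U V :=
    { toFun := fun r => mkU U V (hat r)
      map_one' := by rw [← map_one (algebraMap S₀ A), hat_alg, map_one, map_one]
      map_zero' := by rw [← map_zero (algebraMap S₀ A), hat_alg, map_zero, map_zero]
      map_mul' := fun r r' => by
        rw [← map_mul, mkU_eq]
        filter_upwards [hS r, hS r'] with t h1 h2
        rw [Pi.mul_apply, hat_eq t ⟨r, h1⟩, hat_eq t ⟨r', h2⟩, ← map_mul]
        exact hat_eq t (⟨r, h1⟩ * ⟨r', h2⟩)
      map_add' := fun r r' => by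
        rw [← map_add, mkU_eq]
        filter_upwards [hS r, hS r'] with t h1 h2
        rw [Pi.add_apply, hat_eq t ⟨r, h1⟩, hat_eq t ⟨r', h2⟩, ← map_add]
        exact hat_eq t (⟨r, h1⟩ + ⟨r', h2⟩)
      commutes' := fun s => by rw [hat_alg, mkU_algebraMap] }
  refine ⟨φ, PrimeSpectrum.ext (Ideal.ext fun p => ?_)⟩
  rw [PrimeSpectrum.comap_asIdeal, Ideal.mem_comap]
  let p' : MvPolynomial (Fin n) (∀ t, V t) := ∑ m ∈ p.support, monomial m (hat (coeff m p))
  have hp' : MvPolynomial.map (mkU U V) p' = MvPolynomial.map φ.toRingHom p := by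
    conv_rhs => rw [p.as_sum]
    simp only [p', map_sum, map_monomial]
    rfl
  have key : ∀ᶠ t in (U : Filter ι),
      MvPolynomial.map (Pi.evalRingHom V t) p' ∈ (Q t).asIdeal ↔ p ∈ q.asIdeal := by
    filter_upwards [(eventually_all_finset p.support).mpr fun m _ => hS (coeff m p)] with t ht
    have hmem : ∀ m, coeff m p ∈ S t := fun m => by
      by_cases hm : m ∈ p.support
      · exact ht m hm
      · rw [notMem_support_iff.mp hm]; exact zero_mem _
    obtain ⟨pt, hpt⟩ := exists_map_eq (S t) p hmem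
    have he : MvPolynomial.map (Pi.evalRingHom V t) p' = MvPolynomial.map (algebraMap (S t) (V t)) pt := by
      refine MvPolynomial.ext _ _ fun m => ?_
      rw [coeff_map, coeff_map, ← hat_eq t (coeff m pt)]
      have hc : coeff m p = ((coeff m pt : S t) : A) := by rw [← hpt, coeff_map]; rfl
      simp only [p', coeff_sum, coeff_monomial, Finset.sum_ite_eq', Pi.evalRingHom_apply]
      split_ifs with hm
      · rw [hc]
      · rw [← hc, notMem_support_iff.mp hm, ← map_zero (algebraMap S₀ A), hat_alg, map_zero]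
    rw [he, ← Ideal.mem_comap, ← PrimeSpectrum.comap_asIdeal, hQ t, PrimeSpectrum.comap_asIdeal,
      Ideal.mem_comap, hpt]
  rw [← hp', mem_seqPrime]
  constructor
  · intro hmem
    obtain ⟨t, h1, h2⟩ := ((hmem : ∀ᶠ t in (U : Filter ι), _).and key).exists
    exact h2.mp h1
  · intro hmem
    show ∀ᶠ t in (U : Filter ι), _
    filter_upwards [key] with t ht using ht.mpr hmem

omit S₀ in
theorem maximalIdeal_le_seqPrime
    (hQ : ∀ t, (IsLocalRing.maximalIdeal (V t)).map (C : V t →+* MvPolynomial (Fin n) (V t)) ≤ (Q t).asIdeal) :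
    (IsLocalRing.maximalIdeal (UP U V)).map (C : UP U V →+* MvPolynomial (Fin n) (UP U V)) ≤
      (seqPrime U V Q).asIdeal := by
  refine Ideal.map_le_iff_le_comap.mpr fun w hw => ?_
  obtain ⟨f, rfl⟩ := mkU_surjective U V w
  rw [Ideal.mem_comap, ← map_C, mem_seqPrime]
  show ∀ᶠ t in (U : Filter ι), _
  filter_upwards [eventually_mem_maximalIdeal U V hw] with t ht
  rw [map_C]
  exact hQ t (Ideal.mem_map_of_mem _ ht)

end Descent

theorem exists_bad_dvr {A : Type u} [CommRing A] [IsReduced A] {a n : ℕ} {S₀ : Type u} [CommRing S₀]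
    [IsNoetherianRing S₀] [Algebra S₀ A] (N₀ : Submodule (MvPolynomial (Fin n) S₀) (FreeMod S₀ a n))
    (q : PrimeSpectrum (MvPolynomial (Fin n) A)) (hq : q ∉ flatSet (locN A N₀))
    (S : Subalgebra S₀ A) (hS : S.FG) :
    ∃ (V : Type u) (_ : CommRing V) (_ : IsDomain V) (_ : IsDiscreteValuationRing V)
      (_ : Algebra S V) (Q : PrimeSpectrum (MvPolynomial (Fin n) V)),
      PrimeSpectrum.comap (MvPolynomial.map (algebraMap S V)) Q =
        PrimeSpectrum.comap (MvPolynomial.map (algebraMap S A)) q ∧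
      (IsLocalRing.maximalIdeal V).map (C : V →+* MvPolynomial (Fin n) V) ≤ Q.asIdeal ∧
        Q ∉ flatSet (locN V (locN S N₀)) := by
  by_contra hcon
  haveI : IsNoetherianRing S := isNoetherianRing_of_fg hS
  haveI : IsReduced S := isReduced_of_injective S.val Subtype.val_injective
  refine hq ?_
  rw [← locN_locN S N₀]
  refine mem_flatSet_of_comap S _ q (mem_flatSet_of_dvr _ _ fun V _ _ _ _ Q h₁ h₂ => ?_)
  by_contra h₃
  exact hcon ⟨V, inferInstance, inferInstance, inferInstance, inferInstance, Q, h₁, h₂, h₃⟩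

theorem mem_flatSet_of_valuation_aux {A : Type u} [CommRing A] [IsReduced A] {a n : ℕ} {S₀ : Type u}
    [CommRing S₀] [IsNoetherianRing S₀] [Algebra S₀ A]
    (N₀ : Submodule (MvPolynomial (Fin n) S₀) (FreeMod S₀ a n))
    (q : PrimeSpectrum (MvPolynomial (Fin n) A))
    (h : ∀ (W : Type u) [CommRing W] [IsDomain W] [ValuationRing W] [Algebra A W]
      (Q : PrimeSpectrum (MvPolynomial (Fin n) W)),
      PrimeSpectrum.comap (MvPolynomial.map (algebraMap A W)) Q = q →
      (IsLocalRing.maximalIdeal W).map (C : W →+* MvPolynomial (Fin n) W) ≤ Q.asIdeal →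
        Q ∈ flatSet (locN W (locN A N₀))) :
    q ∈ flatSet (locN A N₀) := by
  classical
  by_contra hq
  let S : Finset A → Subalgebra S₀ A := fun T => Algebra.adjoin S₀ (T : Set A)
  choose V iV iD iR iA Q hQc hQm hQf using fun T => exists_bad_dvr N₀ q hq (S T) (Subalgebra.fg_adjoin_finset T)
  letI iS : ∀ T, Algebra S₀ (V T) := fun T =>
    ((algebraMap (S T) (V T)).comp (algebraMap S₀ (S T))).toAlgebra
  haveI : ∀ T, IsScalarTower S₀ (S T) (V T) := fun T => .of_algebraMap_eq fun _ => rfl
  let U : Ultrafilter (Finset A) := Ultrafilter.of atTop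
  have hU : ∀ r : A, ∀ᶠ T in (U : Filter (Finset A)), r ∈ S T := fun r =>
    Ultrafilter.of_le atTop ((eventually_ge_atTop {r}).mono fun T hT =>
      Algebra.subset_adjoin (hT (Finset.mem_singleton_self r)))
  obtain ⟨φ, hφ⟩ := exists_algHom_UP U V Q S hU q hQc
  letI : Algebra A (UP U V) := φ.toRingHom.toAlgebra
  haveI : IsScalarTower S₀ A (UP U V) := .of_algebraMap_eq fun s => (φ.commutes s).symm
  have hflat := h (UP U V) (seqPrime U V Q) hφ (maximalIdeal_le_seqPrime U V Q hQm)
  rw [locN_locN] at hflat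
  obtain ⟨T, hT⟩ := (eventually_mem_flatSet U V Q N₀ hflat).exists
  refine hQf T ?_
  rw [locN_locN]
  exact hT

/-- Flatness at a prime over a reduced ring, tested on valuation rings. -/
theorem mem_flatSet_of_valuation {A : Type u} [CommRing A] [IsReduced A] {a n : ℕ}
    {N : Submodule (MvPolynomial (Fin n) A) (FreeMod A a n)} (hN : N.FG)
    (q : PrimeSpectrum (MvPolynomial (Fin n) A))
    (h : ∀ (W : Type u) [CommRing W] [IsDomain W] [ValuationRing W] [Algebra A W]
      (Q : PrimeSpectrum (MvPolynomial (Fin n) W)),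
      PrimeSpectrum.comap (MvPolynomial.map (algebraMap A W)) Q = q →
      (IsLocalRing.maximalIdeal W).map (C : W →+* MvPolynomial (Fin n) W) ≤ Q.asIdeal →
        Q ∈ flatSet (locN W N)) :
    q ∈ flatSet N := by
  obtain ⟨S₀, N₀, hS₀, rfl⟩ := exists_base N hN
  haveI := hS₀
  exact mem_flatSet_of_valuation_aux N₀ q h

end Groth.Agent.RGFlatLib
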